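import Cfsg.Agent.Lib.CosetEnum.Use

/-!
Packed permutations built from the letters of a coset table, and lists of them as group elements.
-/

set_option autoImplicit false

namespace CfsgLib.DCoset

open CfsgLib.CosetEnum

/-- leaf `i` of a table with one entry in each leaf -/
noncomputable def leafAt (t : PTab) : ℕ → ℕ :=
  PTab.rec (fun p _ => p)
    (fun _ _ a b i => Nat.rec (a (Nat.div i (nat_lit 2))) (fun _ _ => b (Nat.div i (nat_lit 2)))
      (Nat.mod i (nat_lit 2))) t

/-- entry `x` of a packed permutation, 12 bits each -/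
noncomputable def pget (p x : ℕ) : ℕ :=
  Nat.mod (Nat.shiftRight p (Nat.mul x (nat_lit 12))) (nat_lit 4096)

/-- A coset table with named permutations ("atoms"); the first ones are the letters. -/
structure Space where
  /-- the table -/
  C : Cert
  /-- the atoms -/
  A : PTab
  /-- number of atoms -/
  cnt : ℕ
  /-- each atom as a product of earlier ones -/
  D : ℕ → List ℕ

namespace Space

variable (S : Space)

/-- image of a point under a list of atoms, applied from the left to the right -/
noncomputable def app (l : List ℕ) (x : ℕ) : ℕ :=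
  List.rec (fun x => x) (fun n _ ih x => strict x fun y => ih (pget (leafAt S.A n) y)) l x

theorem app_nil (x : ℕ) : S.app [] x = x := rfl

theorem app_cons (n : ℕ) (l : List ℕ) (x : ℕ) :
    S.app (n :: l) x = S.app l (pget (leafAt S.A n) x) := by
  unfold app
  simp only [strict_eq]

theorem app_append (l m : List ℕ) (x : ℕ) : S.app (l ++ m) x = S.app m (S.app l x) := by
  induction l generalizing x with
  | nil => rfl
  | cons n l ih => simp [app_cons, ih]

/-- all entries are atoms -/
noncomputable def allLt (b : ℕ) (l : List ℕ) : Bool :=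
  List.rec true (fun n _ ih => band (ltB n b) ih) l

theorem allLt_iff {b : ℕ} {l : List ℕ} : allLt b l = true ↔ ∀ n ∈ l, n < b := by
  induction l with
  | nil => simp [allLt]
  | cons n l ih =>
    change band (ltB n b) (allLt b l) = true ↔ _
    rw [band_eq_true, ltB_iff, ih, List.forall_mem_cons]

/-- the check of atom `n` -/
noncomputable def atomOK (n : ℕ) : Bool :=
  strict n fun n =>
  band (pick (ltB n S.C.K) true (allLt n (S.D n)))
    (Cert.allBelow S.C.N fun x =>
      strict x fun x => strict (pget (leafAt S.A n) x) fun y =>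
        band (ltB y S.C.N) (Nat.beq y (pick (ltB n S.C.K) (S.C.T x n) (S.app (S.D n) x))))

/-- the check of atom `n`, or nothing beyond the last -/
noncomputable def atomOK' (n : ℕ) : Bool := strict n fun n => pick (ltB n S.cnt) (S.atomOK n) true

/-- the certified properties -/
structure Valid : Prop where
  complete : S.C.Complete
  action : S.C.IsAction
  atom : ∀ n < S.cnt, S.atomOK n = true

/-- a list of atoms -/
def Lt (l : List ℕ) : Prop := ∀ n ∈ l, n < S.cnt

theorem lt_nil : S.Lt [] := fun n hn => absurd hn List.not_mem_nil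

variable {S}

theorem Lt.append {l m : List ℕ} (hl : S.Lt l) (hm : S.Lt m) : S.Lt (l ++ m) := fun n hn =>
  (List.mem_append.mp hn).elim (hl n) (hm n)

theorem atom_of_blocks {k n : ℕ} (h : ∀ j < n, allUp S.atomOK' k (j * 2 ^ k) = true)
    (hn : S.cnt ≤ n * 2 ^ k) : ∀ i < S.cnt, S.atomOK i = true := by
  intro i hi
  have hj : i / 2 ^ k < n := Nat.div_lt_of_lt_mul (by rw [mul_comm]; omega)
  have h1 := allUp_spec (h _ hj) i (Nat.div_mul_le_self i _)
    (by have := Nat.lt_div_mul_add (a := i) (b := 2 ^ k) (Nat.two_pow_pos k); omega)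
  unfold atomOK' at h1
  simp only [strict_eq] at h1
  rwa [show ltB i S.cnt = true from ltB_iff.mpr hi, pick_true] at h1

theorem Valid.exists_word (v : S.Valid) : ∀ n, n < S.cnt → ∃ w : List ℕ,
    (∀ g ∈ w, g < S.C.K) ∧ ∀ x < S.C.N, S.C.run x w = pget (leafAt S.A n) x := by
  intro n
  induction n using Nat.strong_induction_on with
  | _ n ih =>
    intro hn
    have h := v.atom n hn
    unfold atomOK at h
    simp only [strict_eq, band_eq_true] at h
    obtain ⟨hD, hx⟩ := h
    have hx' : ∀ x < S.C.N, pget (leafAt S.A n) x < S.C.N ∧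
        pget (leafAt S.A n) x = pick (ltB n S.C.K) (S.C.T x n) (S.app (S.D n) x) := fun x hxN => by
      have h := Cert.allBelow_spec hx x hxN
      simp only [band_eq_true, ltB_iff] at h
      exact ⟨h.1, Nat.eq_of_beq_eq_true h.2⟩
    cases hK : ltB n S.C.K with
    | true =>
      refine ⟨[n], by simpa using ltB_iff.mp hK, fun x hxN => ?_⟩
      rw [(hx' x hxN).2, hK, pick_true, Cert.run_cons, Cert.run_nil]
    | false =>
      rw [hK, pick_false, allLt_iff] at hD
      have key : ∀ l : List ℕ, (∀ m ∈ l, m < n) → ∃ w : List ℕ,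
          (∀ g ∈ w, g < S.C.K) ∧ ∀ x < S.C.N, S.C.run x w = S.app l x := by
        intro l hl
        induction l with
        | nil => exact ⟨[], by simp, fun x _ => rfl⟩
        | cons m l ihl =>
          rw [List.forall_mem_cons] at hl
          obtain ⟨u, hu, hu'⟩ := ih m hl.1 (hl.1.trans hn)
          obtain ⟨w, hw, hw'⟩ := ihl hl.2
          refine ⟨u ++ w, fun g hg => (List.mem_append.mp hg).elim (hu g) (hw g), fun x hxN => ?_⟩
          rw [run_append, app_cons, ← hu' x hxN, hw' _ (v.action.run_lt hxN hu)]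
      obtain ⟨w, hw, hw'⟩ := key _ hD
      refine ⟨w, hw, fun x hxN => ?_⟩
      rw [hw' x hxN, (hx' x hxN).2, hK, pick_false]

/-- a word of an atom -/
noncomputable def Valid.wd (v : S.Valid) (n : ℕ) : List ℕ :=
  if h : n < S.cnt then (v.exists_word n h).choose else []

theorem Valid.wd_lt (v : S.Valid) (n : ℕ) : ∀ g ∈ v.wd n, g < S.C.K := by
  intro g hg
  unfold Valid.wd at hg
  split at hg
  · rename_i h
    exact (v.exists_word n h).choose_spec.1 g hg
  · simp at hg

/-- a word of a list of atoms -/
noncomputable def Valid.lw (v : S.Valid) (l : List ℕ) : List ℕ := l.flatMap v.wd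

theorem Valid.lw_lt (v : S.Valid) (l : List ℕ) : ∀ g ∈ v.lw l, g < S.C.K := by
  intro g hg
  obtain ⟨n, -, hg⟩ := List.mem_flatMap.mp hg
  exact v.wd_lt n g hg

theorem Valid.lw_nil (v : S.Valid) : v.lw [] = [] := rfl

theorem Valid.lw_append (v : S.Valid) (l m : List ℕ) : v.lw (l ++ m) = v.lw l ++ v.lw m :=
  List.flatMap_append

theorem Valid.run_lw (v : S.Valid) : ∀ {l : List ℕ}, S.Lt l → ∀ {x : ℕ}, x < S.C.N →
    S.C.run x (v.lw l) = S.app l x
  | [], _, _, _ => rfl
  | n :: l, hl, x, hx => by
    have hn : n < S.cnt := hl n (by simp)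
    have e : S.C.run x (v.wd n) = pget (leafAt S.A n) x := by
      unfold Valid.wd
      rw [dif_pos hn]
      exact (v.exists_word n hn).choose_spec.2 x hx
    rw [show v.lw (n :: l) = v.wd n ++ v.lw l from List.flatMap_cons, run_append, app_cons, ← e]
    exact v.run_lw (fun m hm => hl m (List.mem_cons_of_mem _ hm)) (v.action.run_lt hx (v.wd_lt n))

theorem Valid.app_lt (v : S.Valid) {l : List ℕ} (hl : S.Lt l) {x : ℕ} (hx : x < S.C.N) :
    S.app l x < S.C.N := by
  rw [← v.run_lw hl hx]
  exact v.action.run_lt hx (v.lw_lt l)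

/-- the permutations, composed from the left to the right -/
noncomputable def Valid.pgen (v : S.Valid) (g : ℕ) : (Equiv.Perm (Fin S.C.N))ᵐᵒᵖ :=
  MulOpposite.op (letterPerm v.complete v.action g)⁻¹

theorem Valid.prodW_pgen (v : S.Valid) (w : List ℕ) :
    prodW v.pgen w = MulOpposite.op (prodW (letterPerm v.complete v.action) w)⁻¹ := by
  induction w with
  | nil => simp
  | cons g w ih => rw [prodW_cons, ih, prodW_cons, Valid.pgen, ← MulOpposite.op_mul, mul_inv_rev]

theorem Valid.pgen_apply (v : S.Valid) {w : List ℕ} (hw : ∀ g ∈ w, g < S.C.K) (x : Fin S.C.N) :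
    ((prodW v.pgen w).unop x : ℕ) = S.C.run x w := by
  rw [v.prodW_pgen]
  induction w generalizing x with
  | nil => rfl
  | cons g w ih =>
    rw [List.forall_mem_cons] at hw
    rw [prodW_cons, MulOpposite.unop_op, mul_inv_rev, Equiv.Perm.mul_apply, Cert.run_cons]
    have h1 := ih hw.2 ((letterPerm v.complete v.action g)⁻¹ x)
    rw [MulOpposite.unop_op] at h1
    rw [h1]
    congr 1
    simp [letterPerm, hw.1]

/-- the permutation of a list of atoms -/
noncomputable def Valid.pev (v : S.Valid) (l : List ℕ) : (Equiv.Perm (Fin S.C.N))ᵐᵒᵖ :=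
  prodW v.pgen (v.lw l)

theorem Valid.pev_apply (v : S.Valid) {l : List ℕ} (hl : S.Lt l) (x : Fin S.C.N) :
    ((v.pev l).unop x : ℕ) = S.app l x := by
  rw [Valid.pev, v.pgen_apply (v.lw_lt l), v.run_lw hl x.2]

theorem Valid.pev_append (v : S.Valid) (l m : List ℕ) : v.pev (l ++ m) = v.pev l * v.pev m := by
  rw [Valid.pev, v.lw_append, prodW_append]; rfl

theorem Valid.pev_nil (v : S.Valid) : v.pev [] = 1 := rfl

/-- equality of two lists on some points -/
noncomputable def eqOn (S : Space) (B : List ℕ) (l m : List ℕ) : Bool :=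
  band (band (allLt S.cnt l) (allLt S.cnt m))
    (List.rec true (fun b _ ih => band (Nat.beq (S.app l b) (S.app m b)) ih) B)

theorem eqOn_spec {B l m : List ℕ} (h : eqOn S B l m = true) :
    S.Lt l ∧ S.Lt m ∧ ∀ b ∈ B, S.app l b = S.app m b := by
  unfold eqOn at h
  simp only [band_eq_true, allLt_iff] at h
  refine ⟨h.1.1, h.1.2, ?_⟩
  replace h := h.2
  induction B with
  | nil => simp
  | cons b B ih =>
    dsimp only at h
    rw [band_eq_true] at h
    intro b' hb'
    rcases List.mem_cons.mp hb' with rfl | hb'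
    · exact Nat.eq_of_beq_eq_true h.1
    · exact ih h.2 b' hb'

/-- points that separate the permutations of the words -/
def Valid.Based (v : S.Valid) (B : List ℕ) : Prop :=
  (∀ b ∈ B, b < S.C.N) ∧ ∀ w : List ℕ, (∀ g ∈ w, g < S.C.K) →
    (∀ b ∈ B, S.C.run b w = b) → prodW v.pgen w = 1

end Space

end CfsgLib.DCoset
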