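import Cfsg.Agent.Lib.DCoset.Atoms

/-!
Chains of stabilisers with checked Schreier generators: exact orders and bases.
-/

set_option autoImplicit false

namespace CfsgLib.DCoset

open CfsgLib.CosetEnum

namespace Space

/-- One level: base point, the new generators with inverses, orbit with paths, and witnesses for the
Schreier generators. -/
structure Lev where
  /-- base point -/
  base : ℕ
  /-- generators not fixing the base point, with inverses -/
  new : List (List ℕ × List ℕ)
  /-- points of the orbit with paths of generator numbers -/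
  orbit : List (ℕ × List ℕ)
  /-- for orbit index and generator: the new index and the deeper indices -/
  wit : List (ℕ × List ℕ)

/-- all generators of a list of levels -/
def gensOf : List Lev → List (List ℕ × List ℕ)
  | [] => []
  | l :: ls => l.new ++ gensOf ls

/-- the product of the generators along a path -/
def tr (gs : List (List ℕ × List ℕ)) (path : List ℕ) : List ℕ :=
  path.flatMap fun k => (gs.getD k ([], [])).1

/-- the product of transversal elements, deepest first -/
def sift : List Lev → List ℕ → List ℕ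
  | [], _ => []
  | _ :: _, [] => []
  | l :: ls, j :: js => sift ls js ++ tr (gensOf (l :: ls)) (l.orbit.getD j (0, [])).2

variable (S : Space)

/-- the check of the inverses -/
noncomputable def invsOK (eq : List ℕ → List ℕ → Bool) (gs : List (List ℕ × List ℕ)) : Bool :=
  gs.all fun g => allLt S.cnt g.1 && allLt S.cnt g.2 && eq (g.1 ++ g.2) []

/-- the check of the orbit -/
noncomputable def orbitOK (b : ℕ) (gs : List (List ℕ × List ℕ)) (orb : List (ℕ × List ℕ)) : Bool :=
  (orb.all fun e => Nat.beq (S.app (tr gs e.2) b) e.1) &&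
    (Nat.beq (orb.getD 0 (b + 1, [])).1 b && ((orb.getD 0 (b + 1, [])).2 == [])) &&
    decide (orb.map Prod.fst).Nodup

/-- the check of the Schreier generators -/
noncomputable def schOK (eq : List ℕ → List ℕ → Bool) (gs : List (List ℕ × List ℕ)) (ls : List Lev)
    (orb : List (ℕ × List ℕ)) (wit : List (ℕ × List ℕ)) : Bool :=
  (List.range orb.length).all fun j => (List.range gs.length).all fun k =>
    let w := wit.getD (j * gs.length + k) (0, [])
    Nat.blt w.1 orb.length &&
      eq (tr gs (orb.getD j (0, [])).2 ++ (gs.getD k ([], [])).1)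
        (sift ls w.2 ++ tr gs (orb.getD w.1 (0, [])).2)

/-- the check of the first level -/
noncomputable def levOK (eq : List ℕ → List ℕ → Bool) (l : Lev) (ls : List Lev) : Bool :=
  Nat.blt l.base S.C.N && ((gensOf ls).all fun g => Nat.beq (S.app g.1 l.base) l.base) &&
    S.orbitOK l.base (gensOf (l :: ls)) l.orbit &&
    schOK eq (gensOf (l :: ls)) ls l.orbit l.wit

/-- the check of a chain -/
noncomputable def chainOK (eq : List ℕ → List ℕ → Bool) : List Lev → Bool
  | [] => true
  | l :: ls => S.levOK eq l ls && chainOK eq ls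

/-- the product of the orbit lengths -/
def chainSize : List Lev → ℕ
  | [] => 1
  | l :: ls => l.orbit.length * chainSize ls

variable {S}

/-- The soundness of an equality test. -/
def Valid.Sound (v : S.Valid) (eq : List ℕ → List ℕ → Bool) : Prop :=
  ∀ l m, eq l m = true → v.pev l = v.pev m

instance finite_opPerm {n : ℕ} : Finite (Equiv.Perm (Fin n))ᵐᵒᵖ :=
  Finite.of_equiv _ MulOpposite.opEquiv

/-- The group of the generators. -/
noncomputable def Valid.grp (v : S.Valid) (gs : List (List ℕ × List ℕ)) :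
    Subgroup (Equiv.Perm (Fin S.C.N))ᵐᵒᵖ :=
  Subgroup.closure {x | ∃ g ∈ gs, v.pev g.1 = x}

theorem Valid.mem_grp (v : S.Valid) {gs : List (List ℕ × List ℕ)} {g : List ℕ × List ℕ}
    (hg : g ∈ gs) : v.pev g.1 ∈ v.grp gs :=
  Subgroup.subset_closure ⟨g, hg, rfl⟩

theorem Valid.tr_mem (v : S.Valid) (gs : List (List ℕ × List ℕ)) :
    ∀ path, v.pev (tr gs path) ∈ v.grp gs
  | [] => by simp [tr, v.pev_nil]
  | k :: path => by
    rw [show tr gs (k :: path) = (gs.getD k ([], [])).1 ++ tr gs path from List.flatMap_cons,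
      v.pev_append]
    refine mul_mem ?_ (v.tr_mem gs path)
    by_cases hk : k < gs.length
    · rw [List.getD_eq_getElem _ _ hk]; exact v.mem_grp (List.getElem_mem hk)
    · rw [List.getD_eq_default _ _ (by omega), v.pev_nil]; exact one_mem _

theorem Valid.grp_cons_le (v : S.Valid) (l : Lev) (ls : List Lev) :
    v.grp (gensOf ls) ≤ v.grp (gensOf (l :: ls)) := by
  refine Subgroup.closure_mono ?_
  rintro x ⟨g, hg, e⟩
  exact ⟨g, by rw [gensOf]; exact List.mem_append_right _ hg, e⟩

theorem Valid.sift_mem (v : S.Valid) : ∀ (ls : List Lev) (js : List ℕ),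
    v.pev (sift ls js) ∈ v.grp (gensOf ls)
  | [], _ => by simp [sift, v.pev_nil]
  | _ :: _, [] => by simp [sift, v.pev_nil]
  | l :: ls, j :: js => by
    rw [sift, v.pev_append]
    exact mul_mem (v.grp_cons_le l ls (v.sift_mem ls js)) (v.tr_mem _ _)

theorem lt_flat {gs : List (List ℕ × List ℕ)} (h : ∀ g ∈ gs, S.Lt g.1) (path : List ℕ) :
    S.Lt (tr gs path) := by
  intro n hn
  obtain ⟨k, -, hk⟩ := List.mem_flatMap.mp hn
  by_cases hlen : k < gs.length
  · rw [List.getD_eq_getElem _ _ hlen] at hk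
    exact h _ (List.getElem_mem hlen) n hk
  · rw [List.getD_eq_default _ _ (by omega)] at hk
    simp at hk

/-- What a checked level gives. -/
structure Valid.Step (v : S.Valid) (l : Lev) (ls : List Lev) : Prop where
  base_lt : l.base < S.C.N
  fixed : ∀ x ∈ v.grp (gensOf ls), (x.unop ⟨l.base, base_lt⟩ : ℕ) = l.base
  nodup : (l.orbit.map Prod.fst).Nodup
  pt : ∀ j (hj : j < l.orbit.length),
    ((v.pev (tr (gensOf (l :: ls)) l.orbit[j].2)).unop ⟨l.base, base_lt⟩ : ℕ) = l.orbit[j].1
  zero : ∃ h : 0 < l.orbit.length, l.orbit[0].1 = l.base ∧ l.orbit[0].2 = []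
  decomp : ∀ x ∈ v.grp (gensOf (l :: ls)), ∃ r ∈ v.grp (gensOf ls), ∃ j : Fin l.orbit.length,
    x = r * v.pev (tr (gensOf (l :: ls)) l.orbit[j].2)

theorem Valid.unop_mul_apply (v : S.Valid) (a b : (Equiv.Perm (Fin S.C.N))ᵐᵒᵖ) (x : Fin S.C.N) :
    (a * b).unop x = b.unop (a.unop x) := rfl

theorem Valid.step_of_ok (v : S.Valid) {eq : List ℕ → List ℕ → Bool} (he : v.Sound eq)
    {l : Lev} {ls : List Lev} (h : S.levOK eq l ls = true)
    (hgs : ∀ g ∈ gensOf (l :: ls), S.Lt g.1) : v.Step l ls := by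
  classical
  simp only [levOK, orbitOK, schOK, Bool.and_eq_true, List.all_eq_true, Nat.blt_eq,
    decide_eq_true_eq, List.mem_range, beq_iff_eq] at h
  obtain ⟨⟨⟨hb, hfix⟩, ⟨hpt, h0⟩, hnd⟩, hsch⟩ := h
  have hlen : 0 < l.orbit.length := by
    by_contra hc
    rw [List.getD_eq_default _ _ (by omega)] at h0
    have := Nat.eq_of_beq_eq_true h0.1
    omega
  rw [List.getD_eq_getElem _ _ hlen] at h0
  have pts : ∀ j (hj : j < l.orbit.length),
      ((v.pev (tr (gensOf (l :: ls)) l.orbit[j].2)).unop ⟨l.base, hb⟩ : ℕ) = l.orbit[j].1 := by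
    intro j hj
    rw [v.pev_apply (lt_flat hgs _)]
    exact Nat.eq_of_beq_eq_true (hpt _ (List.getElem_mem hj))
  have hfx : ∀ x ∈ v.grp (gensOf ls), (x.unop ⟨l.base, hb⟩ : ℕ) = l.base := by
    intro x hx
    have hx' : x.unop ⟨l.base, hb⟩ = ⟨l.base, hb⟩ := by
      induction hx using Subgroup.closure_induction with
      | mem y hy =>
        obtain ⟨g, hg, rfl⟩ := hy
        refine Fin.ext ?_
        rw [v.pev_apply (hgs g (by rw [gensOf]; exact List.mem_append_right _ hg))]
        exact Nat.eq_of_beq_eq_true (hfix g hg)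
      | one => rfl
      | mul x y _ _ hx hy => rw [v.unop_mul_apply, hx, hy]
      | inv x _ hx => rw [MulOpposite.unop_inv, Equiv.Perm.inv_eq_iff_eq, hx]
    rw [hx']
  let T : Fin l.orbit.length → (Equiv.Perm (Fin S.C.N))ᵐᵒᵖ := fun j =>
    v.pev (tr (gensOf (l :: ls)) l.orbit[j].2)
  haveI : Fintype (Equiv.Perm (Fin S.C.N))ᵐᵒᵖ := Fintype.ofEquiv _ MulOpposite.opEquiv
  let X : Finset (Equiv.Perm (Fin S.C.N))ᵐᵒᵖ := Finset.univ.filter fun x =>
    ∃ r ∈ v.grp (gensOf ls), ∃ j : Fin l.orbit.length, x = r * T j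
  have hX : ∀ x, x ∈ X ↔ ∃ r ∈ v.grp (gensOf ls), ∃ j : Fin l.orbit.length, x = r * T j :=
    fun x => by simp [X]
  have step : ∀ g ∈ gensOf (l :: ls), ∀ x ∈ X, x * v.pev g.1 ∈ X := by
    intro g hg x hx
    obtain ⟨r, hr, j, rfl⟩ := (hX x).mp hx
    obtain ⟨k, hk, rfl⟩ := List.getElem_of_mem hg
    obtain ⟨hw, he'⟩ := hsch j j.2 k hk
    have e := he _ _ he'
    rw [List.getD_eq_getElem _ _ j.2, List.getD_eq_getElem _ _ hk, List.getD_eq_getElem _ _ hw,
      v.pev_append, v.pev_append] at e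
    refine (hX _).mpr ⟨r * v.pev (sift ls (l.wit.getD (j * (gensOf (l :: ls)).length + k) (0, [])).2),
      mul_mem hr (v.sift_mem _ _), ⟨_, hw⟩, ?_⟩
    rw [mul_assoc]
    simp only [T, Fin.getElem_fin]
    rw [e, mul_assoc]
  have step' : ∀ g ∈ gensOf (l :: ls), ∀ x ∈ X, x * (v.pev g.1)⁻¹ ∈ X := by
    intro g hg x hx
    have hinj : Set.InjOn (fun y => y * v.pev g.1) (X : Set _) := fun a _ b _ h => mul_right_cancel h
    have hmaps : ∀ a ∈ X, (fun y => y * v.pev g.1) a ∈ X := fun a ha => step g hg a ha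
    have hsurj : Set.SurjOn (fun y => y * v.pev g.1) (X : Set _) (X : Set _) :=
      Finset.surjOn_of_injOn_of_card_le _ hmaps hinj le_rfl
    obtain ⟨y, hy, rfl⟩ := hsurj hx
    simpa using hy
  refine ⟨hb, hfx, hnd, pts, ⟨hlen, Nat.eq_of_beq_eq_true h0.1, h0.2⟩, fun x hx => (hX x).mp ?_⟩
  induction hx using Subgroup.closure_induction_right with
  | one =>
    refine (hX 1).mpr ⟨1, one_mem _, ⟨0, hlen⟩, ?_⟩
    simp [T, h0.2, tr, v.pev_nil]
  | mul_right x hx y hy ih =>
    obtain ⟨g, hg, rfl⟩ := hy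
    exact step g hg x ih
  | mul_inv_cancel x hx y hy ih =>
    obtain ⟨g, hg, rfl⟩ := hy
    exact step' g hg x ih

/-- A checked chain gives the order, and the bases separate the elements. -/
theorem Valid.chain (v : S.Valid) {eq : List ℕ → List ℕ → Bool} (he : v.Sound eq) :
    ∀ {ls : List Lev}, S.chainOK eq ls = true → (∀ g ∈ gensOf ls, S.Lt g.1) →
      Nat.card (v.grp (gensOf ls)) = chainSize ls ∧
        ∀ x ∈ v.grp (gensOf ls), (∀ l ∈ ls, ∀ h : l.base < S.C.N,
          (x.unop ⟨l.base, h⟩ : ℕ) = l.base) → x = 1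
  | [], _, _ => by
    have hbot : v.grp (gensOf []) = ⊥ :=
      (Subgroup.closure_eq_bot_iff).mpr (by rintro x ⟨g, hg, -⟩; simp [gensOf] at hg)
    refine ⟨by rw [hbot, Subgroup.card_bot]; rfl, fun x hx _ => ?_⟩
    rw [hbot] at hx
    exact Subgroup.mem_bot.mp hx
  | l :: ls, h, hgs => by
    classical
    rw [chainOK, Bool.and_eq_true] at h
    obtain ⟨ih1, ih2⟩ := v.chain he h.2 fun g hg =>
      hgs g (by rw [gensOf]; exact List.mem_append_right _ hg)
    have s := v.step_of_ok he h.1 hgs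
    obtain ⟨hlen, h01, h02⟩ := s.zero
    have huniq : ∀ (r : (Equiv.Perm (Fin S.C.N))ᵐᵒᵖ) (_ : r ∈ v.grp (gensOf ls))
        (j : Fin l.orbit.length),
        ((r * v.pev (tr (gensOf (l :: ls)) l.orbit[j].2)).unop ⟨l.base, s.base_lt⟩ : ℕ) =
          (l.orbit.map Prod.fst)[(j : ℕ)]'(by simp) := by
      intro r hr j
      rw [v.unop_mul_apply]
      have : r.unop ⟨l.base, s.base_lt⟩ = ⟨l.base, s.base_lt⟩ := Fin.ext (s.fixed r hr)
      rw [this, List.getElem_map]
      exact s.pt j j.2
    refine ⟨?_, fun x hx hfix => ?_⟩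
    · let φ : Fin l.orbit.length × v.grp (gensOf ls) → v.grp (gensOf (l :: ls)) := fun q =>
        ⟨q.2.1 * v.pev (tr (gensOf (l :: ls)) l.orbit[q.1].2),
          mul_mem (v.grp_cons_le l ls q.2.2) (v.tr_mem _ _)⟩
      have hφ : Function.Bijective φ := by
        constructor
        · rintro ⟨j, r⟩ ⟨j', r'⟩ e
          have e' := congrArg Subtype.val e
          simp only [φ] at e'
          have e1 := huniq _ r.2 j
          rw [e', huniq _ r'.2 j'] at e1
          obtain rfl : j = j' := Fin.ext ((s.nodup.getElem_inj_iff).mp e1.symm)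
          exact Prod.ext rfl (Subtype.ext (mul_right_cancel e'))
        · rintro ⟨x, hx⟩
          obtain ⟨r, hr, j, rfl⟩ := s.decomp x hx
          exact ⟨(j, ⟨r, hr⟩), rfl⟩
      rw [← Nat.card_eq_of_bijective φ hφ, Nat.card_prod, Nat.card_fin, ih1, chainSize]
    · obtain ⟨r, hr, j, rfl⟩ := s.decomp x hx
      have e1 := huniq r hr j
      rw [hfix l List.mem_cons_self s.base_lt] at e1
      have e0 : (l.orbit.map Prod.fst)[0]'(by simpa using hlen) = l.base := by simpa using h01
      rw [← e0] at e1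
      have hj : (j : ℕ) = 0 := ((s.nodup.getElem_inj_iff).mp e1).symm
      have : l.orbit[j].2 = [] := by simp [hj, h02]
      rw [this, show tr (gensOf (l :: ls)) [] = [] from rfl, v.pev_nil, mul_one] at hfix ⊢
      exact ih2 r hr fun l' hl' => hfix l' (List.mem_cons_of_mem _ hl')

end Space

end CfsgLib.DCoset
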