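import Cfsg.Agent.Lib.DCoset.Top

/-!
Closed sets of double cosets of a subgroup `H` and one further generator `t` commuting with a
subgroup `U` of `H`: certified facts about `H w t = H w'`, and the bound they give.
-/

set_option autoImplicit false

namespace CfsgLib.DCoset

open CfsgLib.CosetEnum

/-- A fact: an element fixing a coset, or an edge of `t`. -/
inductive Fct where
  | stab (i : ℕ) (p pi : List ℕ)
  | edge (i : ℕ) (g gi : List ℕ) (j : ℕ) (h : List ℕ)

/-- A witness of one step along `t`: an edge and stabiliser facts with their directions. -/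
structure Wit where
  /-- the edge -/
  f : ℕ
  /-- the stabiliser facts, `true` for the inverse -/
  kk : List (ℕ × Bool)

/-- A justification of a fact. -/
inductive Prf where
  | base
  | ubase
  | def'
  | rev (k : ℕ)
  | path (m : ℕ) (ws : List Wit)
  | loop (m : ℕ) (v : List ℕ) (ws : List Wit)
  | lift (i : ℕ) (v : List ℕ) (w1 w2 : Wit)

/-- The data of a closure. -/
structure Data where
  /-- the points separating the permutations -/
  B : List ℕ
  /-- number of states -/
  ns : ℕ
  /-- parent and element defining a state -/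
  par : List (ℕ × List ℕ)
  /-- the facts -/
  facts : List Fct
  /-- their justifications -/
  prfs : List Prf
  /-- words equal to `t`, the letter `K` standing for `t` -/
  menuE : List (List ℕ)
  /-- words equal to `1` -/
  menuS : List (List ℕ)
  /-- a list `a` with `t⁻¹ = a t a⁻¹` -/
  xa : List ℕ
  /-- the inverse of `xa` -/
  xb : List ℕ

namespace Data

variable (S : Space) (D : Data)

/-- fact `f` -/
def fct (f : ℕ) : Fct := D.facts.getD f (.stab 0 [] [])

/-- equality of permutations -/
noncomputable def eq (l m : List ℕ) : Bool := Space.eqOn S D.B l m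

/-- stabiliser facts as a list and its inverse -/
noncomputable def kList (bound i : ℕ) : List (ℕ × Bool) → Option (List ℕ × List ℕ)
  | [] => some ([], [])
  | (f, s) :: r =>
    match D.fct f, kList bound i r with
    | .stab i' p pi, some (k, ki) =>
      if Nat.blt f bound && Nat.beq i' i then
        (if s then some (pi ++ k, ki ++ p) else some (p ++ k, ki ++ pi))
      else none
    | _, _ => none

/-- one step along `t` -/
noncomputable def tstep (bound i : ℕ) (π : List ℕ) (w : Wit) : Option (ℕ × List ℕ) :=
  match D.fct w.f, D.kList bound i w.kk with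
  | .edge i' g gi j h, some (k, ki) =>
    if Nat.blt w.f bound && Nat.beq i' i && Space.allLt S.cnt (h ++ (k ++ (g ++ (gi ++ (ki ++ π)))))
        && Nat.beq (S.app (gi ++ (ki ++ π)) 0) 0 then
      some (j, h ++ (gi ++ (ki ++ π)))
    else none
  | _, _ => none

/-- follow a word -/
noncomputable def walk (bound : ℕ) : ℕ → List ℕ → List ℕ → List Wit → Option (ℕ × List ℕ)
  | i, π, [], _ => some (i, π)
  | i, π, c :: Q, ws =>
    if Nat.blt c S.C.K && Nat.blt c S.cnt then walk bound i (π ++ [c]) Q ws
    else if Nat.beq c S.C.K then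
      match ws with
      | [] => none
      | w :: ws =>
        match D.tstep S bound i π w with
        | none => none
        | some (j, ρ) => walk bound j ρ Q ws
    else none

/-- the check of fact `n` -/
noncomputable def factOK (n : ℕ) : Bool :=
  match D.fct n, D.prfs.getD n .base with
  | .stab i p pi, .base => D.eq S (p ++ pi) [] && Nat.beq i 0
  | .stab i p pi, .ubase =>
    D.eq S (p ++ pi) [] && Nat.blt 0 i && Nat.beq (D.par.getD i (i, [])).1 0 &&
      Nat.beq (S.app p 0) 0
  | .stab i p pi, .loop m v ws =>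
    D.eq S (p ++ pi) [] && Space.allLt S.cnt v && Nat.blt m D.menuS.length &&
      match D.walk S n i v (D.menuS.getD m []) ws with
      | none => false
      | some (i', π) => Nat.beq i' i && D.eq S π (p ++ v)
  | .stab j p pi, .lift i v w1 w2 =>
    D.eq S (p ++ pi) [] && Space.allLt S.cnt v &&
      match D.tstep S n i v w1, D.tstep S n i v w2 with
      | some (j1, a), some (j2, b) => Nat.beq j1 j && Nat.beq j2 j && D.eq S (p ++ a) b
      | _, _ => false
  | .edge i g gi j h, .def' =>
    D.eq S (g ++ gi) [] && Nat.blt i j && Nat.beq (D.par.getD j (j, [])).1 i &&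
      ((D.par.getD j (j, [])).2 == g) && (h == [])
  | .edge b g' gi a h', .rev k =>
    D.eq S (g' ++ gi) [] && Nat.blt k n &&
      match D.fct k with
      | .edge a' g _ b' h =>
        Nat.beq a' a && Nat.beq b' b && D.eq S g' (h ++ D.xa) && D.eq S h' (g ++ D.xa)
      | _ => false
  | .edge i g gi j h, .path m ws =>
    D.eq S (g ++ gi) [] && Nat.blt m D.menuE.length &&
      match D.walk S n i g (D.menuE.getD m []) ws with
      | none => false
      | some (j', π) => Nat.beq j' j && D.eq S π h
  | _, _ => false

end Data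

variable {G : Type*} [Group G] {S : Space}

/-- The group side. -/
structure Rig (v : S.Valid) (gen : ℕ → G) (H U : Subgroup G) (t : G) : Prop where
  invK : S.InvOK
  model : Model S.C U gen
  H_eq : H = Subgroup.closure {y | ∃ g < S.C.K, gen g = y}
  gen_top : Subgroup.closure (insert t (H : Set G)) = ⊤
  comm : ∀ u ∈ U, t * u = u * t
  normal_top : ∀ N : Subgroup G, N.Normal → t ∈ N → N = ⊤

/-- The same right coset. -/
def Same (H : Subgroup G) (a b : G) : Prop := a * b⁻¹ ∈ H

namespace Same

variable {H : Subgroup G} {a b c : G}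

theorem refl (a : G) : Same H a a := by simp [Same]

theorem symm (h : Same H a b) : Same H b a := by simpa [Same] using H.inv_mem h

theorem trans (h : Same H a b) (h' : Same H b c) : Same H a c := by
  simpa [Same, mul_assoc] using H.mul_mem h h'

theorem mul_right (h : Same H a b) (x : G) : Same H (a * x) (b * x) := by
  simpa [Same, mul_assoc] using h

theorem of_mul_right {x : G} (h : Same H (a * x) (b * x)) : Same H a b := by
  simpa [Same, mul_assoc] using h

end Same

namespace Rig

variable {v : S.Valid} {gen : ℕ → G} {H U : Subgroup G} {t : G}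

theorem gen_mem (R : Rig v gen H U t) {g : ℕ} (hg : g < S.C.K) : gen g ∈ H := by
  rw [R.H_eq]; exact Subgroup.subset_closure ⟨g, hg, rfl⟩

theorem prodW_mem (R : Rig v gen H U t) : ∀ {w : List ℕ}, (∀ g ∈ w, g < S.C.K) → prodW gen w ∈ H
  | [], _ => by simp
  | g :: w, hw => by
    rw [List.forall_mem_cons] at hw
    rw [prodW_cons]
    exact mul_mem (R.gen_mem hw.1) (R.prodW_mem hw.2)

theorem revInv_lt (v : S.Valid) {w : List ℕ} (hw : ∀ g ∈ w, g < S.C.K) :
    ∀ g ∈ S.C.revInv w, g < S.C.K := by
  intro g hg
  simp only [Cert.revInv, List.mem_reverse, List.mem_map] at hg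
  obtain ⟨g', hg', rfl⟩ := hg
  exact v.complete.inv_lt (hw g' hg')

theorem exists_word (R : Rig v gen H U t) {x : G} (hx : x ∈ H) :
    ∃ w : List ℕ, (∀ g ∈ w, g < S.C.K) ∧ prodW gen w = x := by
  rw [R.H_eq] at hx
  induction hx using Subgroup.closure_induction with
  | mem y hy => obtain ⟨g, hg, rfl⟩ := hy; exact ⟨[g], by simpa using hg, by simp⟩
  | one => exact ⟨[], by simp, rfl⟩
  | mul x y _ _ hx hy =>
    obtain ⟨a, ha, rfl⟩ := hx
    obtain ⟨b, hb, rfl⟩ := hy
    exact ⟨a ++ b, fun g hg => (List.mem_append.mp hg).elim (ha g) (hb g), prodW_append _ _ _⟩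
  | inv x _ hx =>
    obtain ⟨a, ha, rfl⟩ := hx
    exact ⟨S.C.revInv a, revInv_lt v ha, R.model.revInv_eq a⟩

theorem mem_U (R : Rig v gen H U t) {w : List ℕ} (hw : ∀ g ∈ w, g < S.C.K)
    (h : S.C.run 0 w = 0) : prodW gen w ∈ U :=
  mem_of_run_eq_zero v.complete R.model hw h

theorem pmodel (R : Rig v gen H U t) : Model S.C ⊤ v.pgen := v.model R.invK ⊤ fun _ _ => trivial

theorem run_eq_zero {v : S.Valid} {w : List ℕ} (hw : ∀ g ∈ w, g < S.C.K)
    (h : prodW v.pgen w = 1) : S.C.run 0 w = 0 := by
  have e := v.pgen_apply hw v.zero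
  rw [h] at e
  exact e.symm

/-- The elements acting trivially are central. -/
theorem central (R : Rig v gen H U t) {w : List ℕ} (hw : ∀ g ∈ w, g < S.C.K)
    (h : prodW v.pgen w = 1) (x : G) : x * prodW gen w = prodW gen w * x := by
  let C0 : Set G := {c | ∃ w : List ℕ, (∀ g ∈ w, g < S.C.K) ∧ prodW v.pgen w = 1 ∧ prodW gen w = c}
  have ht : t ∈ Subgroup.centralizer C0 := by
    rw [Subgroup.mem_centralizer_iff]
    rintro c ⟨u, hu, hu1, rfl⟩
    exact (R.comm _ (R.mem_U hu (run_eq_zero hu hu1))).symm
  have hconj : ∀ h ∈ H, ∀ c ∈ C0, h * c * h⁻¹ ∈ C0 := by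
    rintro a ha c ⟨u, hu, hu1, rfl⟩
    obtain ⟨b, hb, rfl⟩ := R.exists_word ha
    refine ⟨b ++ u ++ S.C.revInv b, ?_, ?_, ?_⟩
    · simp only [List.mem_append]
      rintro g ((hg | hg) | hg)
      exacts [hb g hg, hu g hg, revInv_lt v hb g hg]
    · rw [prodW_append, prodW_append, hu1, R.pmodel.revInv_eq, mul_one, mul_inv_cancel]
    · rw [prodW_append, prodW_append, R.model.revInv_eq]
  have hnorm : Subgroup.normalizer ((Subgroup.centralizer C0 : Subgroup G) : Set G) = ⊤ := by
    rw [eq_top_iff, ← R.gen_top, Subgroup.closure_le]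
    intro a ha
    rcases ha with rfl | ha
    · exact Subgroup.le_normalizer ht
    · have key : ∀ b ∈ H, ∀ y ∈ Subgroup.centralizer C0, b * y * b⁻¹ ∈ Subgroup.centralizer C0 := by
        intro b hb y hy
        rw [Subgroup.mem_centralizer_iff] at hy ⊢
        intro c hc
        have e := hy _ (hconj b⁻¹ (inv_mem hb) c hc)
        rw [inv_inv] at e
        calc c * (b * y * b⁻¹) = b * (b⁻¹ * c * b * y) * b⁻¹ := by group
          _ = b * (y * (b⁻¹ * c * b)) * b⁻¹ := by rw [e]
          _ = b * y * b⁻¹ * c := by group
      rw [SetLike.mem_coe, Subgroup.mem_normalizer_iff]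
      intro y
      refine ⟨key a ha y, fun hy => ?_⟩
      have := key a⁻¹ (inv_mem ha) _ hy
      simpa [mul_assoc] using this
  have htop := R.normal_top _ (Subgroup.normalizer_eq_top_iff.mp hnorm) ht
  have hx : x ∈ Subgroup.centralizer C0 := by rw [htop]; trivial
  exact (Subgroup.mem_centralizer_iff.mp hx _ ⟨w, hw, h, rfl⟩).symm

/-- Equal permutations move a coset to the same coset. -/
theorem cong (R : Rig v gen H U t) {u w : List ℕ} (hu : ∀ g ∈ u, g < S.C.K)
    (hw : ∀ g ∈ w, g < S.C.K) (h : prodW v.pgen u = prodW v.pgen w) (a b : G) :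
    Same H (a * prodW gen u * b) (a * prodW gen w * b) := by
  have hlt : ∀ g ∈ u ++ S.C.revInv w, g < S.C.K := fun g hg =>
    (List.mem_append.mp hg).elim (hu g) (revInv_lt v hw g)
  have h1 : prodW v.pgen (u ++ S.C.revInv w) = 1 := by
    rw [prodW_append, R.pmodel.revInv_eq, h, mul_inv_cancel]
  have e : prodW gen u = prodW gen (u ++ S.C.revInv w) * prodW gen w := by
    rw [prodW_append, R.model.revInv_eq, inv_mul_cancel_right]
  have hc := R.central hlt h1 a
  unfold Same
  have e2 : a * prodW gen u * b * (a * prodW gen w * b)⁻¹ = prodW gen (u ++ S.C.revInv w) := by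
    rw [e]
    calc a * (prodW gen (u ++ S.C.revInv w) * prodW gen w) * b * (a * prodW gen w * b)⁻¹
        = a * prodW gen (u ++ S.C.revInv w) * a⁻¹ := by group
      _ = prodW gen (u ++ S.C.revInv w) := by rw [hc, mul_inv_cancel_right]
  rw [e2]
  exact R.prodW_mem hlt

/-- the element of a list of atoms -/
noncomputable def ev (_ : Rig v gen H U t) (l : List ℕ) : G := prodW gen (v.lw l)

theorem ev_append (R : Rig v gen H U t) (l m : List ℕ) : R.ev (l ++ m) = R.ev l * R.ev m := by
  rw [ev, ev, ev, v.lw_append, prodW_append]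

theorem ev_nil (R : Rig v gen H U t) : R.ev [] = 1 := rfl

theorem ev_mem (R : Rig v gen H U t) (l : List ℕ) : R.ev l ∈ H := R.prodW_mem (v.lw_lt l)

theorem ev_memU (R : Rig v gen H U t) {l : List ℕ} (hl : S.Lt l) (h : S.app l 0 = 0) :
    R.ev l ∈ U :=
  R.mem_U (v.lw_lt l) (by rw [v.run_lw hl v.complete.N_pos, h])

theorem same_ev (R : Rig v gen H U t) {l m : List ℕ} (h : v.pev l = v.pev m) (a b : G) :
    Same H (a * R.ev l * b) (a * R.ev m * b) :=
  R.cong (v.lw_lt l) (v.lw_lt m) h a b

theorem pev_letter (v : S.Valid) {c : ℕ} (hK : c < S.C.K) (hn : c < S.cnt) :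
    v.pev [c] = v.pgen c := by
  refine MulOpposite.unop_injective (Equiv.ext fun x => Fin.ext ?_)
  have e := v.pgen_apply (w := [c]) (by simpa using hK) x
  rw [prodW_cons, prodW_nil, mul_one] at e
  rw [e, v.pev_apply (by simpa [Space.Lt] using hn), Space.app_cons, Space.app_nil, Cert.run_cons,
    Cert.run_nil]
  have h := v.atom c hn
  unfold Space.atomOK at h
  simp only [strict_eq, band_eq_true] at h
  have hx := Cert.allBelow_spec h.2 x x.2
  simp only [band_eq_true, ltB_iff] at hx
  rw [show ltB c S.C.K = true from ltB_iff.mpr hK, pick_true] at hx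
  exact Nat.eq_of_beq_eq_true hx.2

end Rig

namespace Data

variable (D : Data) {v : S.Valid} {gen : ℕ → G} {H U : Subgroup G} {t : G}

/-- the element of a state -/
noncomputable def wst (R : Rig v gen H U t) (j : ℕ) : G :=
  if _h : (D.par.getD j (j, [])).1 < j then
    wst R (D.par.getD j (j, [])).1 * R.ev (D.par.getD j (j, [])).2 * t
  else 1
  termination_by j
  decreasing_by assumption

/-- the meaning of a fact -/
def Holds (R : Rig v gen H U t) : Fct → Prop
  | .stab i p pi => v.pev p * v.pev pi = 1 ∧ Same H (D.wst R i * R.ev p) (D.wst R i)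
  | .edge i g gi j h =>
    v.pev g * v.pev gi = 1 ∧ Same H (D.wst R i * R.ev g * t) (D.wst R j * R.ev h)

/-- What the caller supplies about the words. -/
structure Hyp (R : Rig v gen H U t) : Prop where
  based : v.Based D.B
  par0 : D.par.getD 0 (0, []) = (0, [])
  menuE : ∀ Q ∈ D.menuE, prodW (fun c => if c < S.C.K then gen c else t) Q = t
  menuS : ∀ Q ∈ D.menuS, prodW (fun c => if c < S.C.K then gen c else t) Q = 1
  tinv : ∀ a : G, Same H (a * t⁻¹) (a * (R.ev D.xa * t * R.ev D.xb))
  xba : v.pev D.xb * v.pev D.xa = 1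

variable {D} {R : Rig v gen H U t}

theorem Hyp.eq_spec (y : D.Hyp R) {l m : List ℕ} (h : D.eq S l m = true) :
    S.Lt l ∧ S.Lt m ∧ v.pev l = v.pev m :=
  ⟨(Space.eqOn_spec h).1, (Space.eqOn_spec h).2.1, v.lw_eq_of R.invK y.based h⟩

theorem kList_spec {bound i : ℕ}
    (hb : ∀ f < bound, D.Holds R (D.fct f)) :
    ∀ {kk : List (ℕ × Bool)} {k ki : List ℕ}, D.kList bound i kk = some (k, ki) →
      v.pev k * v.pev ki = 1 ∧ Same H (D.wst R i * R.ev k) (D.wst R i)
  | [], k, ki, h => by
    simp only [kList, Option.some.injEq, Prod.mk.injEq] at h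
    obtain ⟨rfl, rfl⟩ := h
    exact ⟨by simp [v.pev_nil], by simp [R.ev_nil, Same.refl]⟩
  | (f, s) :: r, k, ki, h => by
    rw [kList] at h
    cases hf : D.fct f with
    | edge i' g gi j' h' => simp [hf] at h
    | stab i' p pi =>
      cases hr : D.kList bound i r with
      | none => simp [hf, hr] at h
      | some q =>
        obtain ⟨k0, ki0⟩ := q
        simp only [hf, hr] at h
        split at h
        · rename_i hc
          simp only [Bool.and_eq_true, Nat.blt_eq] at hc
          obtain rfl := Nat.eq_of_beq_eq_true hc.2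
          have hh := hb f hc.1
          rw [hf] at hh
          obtain ⟨h1, h2⟩ := hh
          obtain ⟨e1, e2⟩ := kList_spec hb hr
          cases s with
          | false =>
            simp only [Bool.false_eq_true, ↓reduceIte, Option.some.injEq, Prod.mk.injEq] at h
            obtain ⟨rfl, rfl⟩ := h
            refine ⟨?_, ?_⟩
            · rw [v.pev_append, v.pev_append,
                show v.pev p * v.pev k0 * (v.pev ki0 * v.pev pi) =
                  v.pev p * (v.pev k0 * v.pev ki0) * v.pev pi by group, e1, mul_one, h1]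
            · rw [R.ev_append, ← mul_assoc]
              exact (h2.mul_right _).trans e2
          | true =>
            simp only [↓reduceIte, Option.some.injEq, Prod.mk.injEq] at h
            obtain ⟨rfl, rfl⟩ := h
            have h1' : v.pev pi * v.pev p = 1 := by
              rwa [← eq_inv_iff_mul_eq_one, eq_comm, inv_eq_iff_mul_eq_one]
            refine ⟨?_, ?_⟩
            · rw [v.pev_append, v.pev_append,
                show v.pev pi * v.pev k0 * (v.pev ki0 * v.pev p) =
                  v.pev pi * (v.pev k0 * v.pev ki0) * v.pev p by group, e1, mul_one, h1']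
            · have h3 : Same H (D.wst R i' * R.ev pi) (D.wst R i') := by
                have a1 := (h2.mul_right (R.ev pi)).symm
                have a2 := R.same_ev (l := p ++ pi) (m := []) (by rw [v.pev_append, h1, v.pev_nil])
                  (D.wst R i') 1
                rw [R.ev_append, R.ev_nil, mul_one, mul_one, mul_one, ← mul_assoc] at a2
                exact a1.trans a2
              rw [R.ev_append, ← mul_assoc]
              exact (h3.mul_right _).trans e2
        · simp at h

/-- One step along `t`, for any word. -/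
theorem step_word {i j : ℕ} {g gi h k ki : List ℕ} (hf : D.Holds R (.edge i g gi j h))
    (hk : v.pev k * v.pev ki = 1 ∧ Same H (D.wst R i * R.ev k) (D.wst R i)) {π : List ℕ}
    (hπ : ∀ c ∈ π, c < S.C.K) (h0 : S.C.run 0 (v.lw (gi ++ ki) ++ π) = 0) :
    Same H (D.wst R i * prodW gen π * t)
      (D.wst R j * prodW gen (v.lw (h ++ (gi ++ ki)) ++ π)) := by
  obtain ⟨hg, he⟩ := hf
  have hu : ∀ c ∈ v.lw (gi ++ ki) ++ π, c < S.C.K := fun c hc =>
    (List.mem_append.mp hc).elim (v.lw_lt _ c) (hπ c)
  have hlt : ∀ c ∈ v.lw (k ++ g) ++ (v.lw (gi ++ ki) ++ π), c < S.C.K := fun c hc =>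
    (List.mem_append.mp hc).elim (v.lw_lt _ c) (hu c)
  have hper : prodW v.pgen (v.lw (k ++ g) ++ (v.lw (gi ++ ki) ++ π)) = prodW v.pgen π := by
    rw [prodW_append, prodW_append]
    change v.pev (k ++ g) * (v.pev (gi ++ ki) * prodW v.pgen π) = _
    rw [v.pev_append, v.pev_append, ← mul_assoc,
      show v.pev k * v.pev g * (v.pev gi * v.pev ki) = v.pev k * (v.pev g * v.pev gi) * v.pev ki by
        group, hg, mul_one, hk.1, one_mul]
  have a1 := (R.cong hlt hπ hper (D.wst R i) t).symm
  have hcomm := R.comm _ (R.mem_U hu h0)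
  have e1 : D.wst R i * prodW gen (v.lw (k ++ g) ++ (v.lw (gi ++ ki) ++ π)) * t =
      D.wst R i * R.ev k * (R.ev g * t * prodW gen (v.lw (gi ++ ki) ++ π)) := by
    rw [prodW_append, show prodW gen (v.lw (k ++ g)) = R.ev k * R.ev g from R.ev_append k g]
    simp only [mul_assoc]
    rw [hcomm]
  rw [e1] at a1
  refine a1.trans ((hk.2.mul_right _).trans ?_)
  have a2 := he.mul_right (prodW gen (v.lw (gi ++ ki) ++ π))
  simp only [prodW_append, v.lw_append, mul_assoc, Rig.ev] at a2 ⊢
  exact a2

theorem tstep_spec {bound i : ℕ} (hb : ∀ f < bound, D.Holds R (D.fct f)) {π : List ℕ} {w : Wit}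
    {j : ℕ} {ρ : List ℕ} (h : D.tstep S bound i π w = some (j, ρ)) :
    Same H (D.wst R i * R.ev π * t) (D.wst R j * R.ev ρ) := by
  unfold tstep at h
  cases hf : D.fct w.f with
  | stab i' p pi => simp [hf] at h
  | edge i' g gi j' h' =>
    cases hk : D.kList bound i w.kk with
    | none => simp [hf, hk] at h
    | some q =>
      obtain ⟨k, ki⟩ := q
      simp only [hf, hk] at h
      split at h
      · rename_i hc
        simp only [Bool.and_eq_true, Nat.blt_eq] at hc
        obtain ⟨⟨⟨hwf, hi⟩, hlt⟩, h0⟩ := hc
        obtain rfl := Nat.eq_of_beq_eq_true hi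
        simp only [Option.some.injEq, Prod.mk.injEq] at h
        obtain ⟨rfl, rfl⟩ := h
        have hh := hb _ hwf
        rw [hf] at hh
        have hlt' : S.Lt (gi ++ (ki ++ π)) := fun n hn =>
          Space.allLt_iff.mp hlt n (List.mem_append_right _ (List.mem_append_right _
            (List.mem_append_right _ hn)))
        have := step_word hh (kList_spec hb hk) (v.lw_lt π) (by
          rw [← v.lw_append, List.append_assoc, v.run_lw hlt' v.complete.N_pos]
          exact Nat.eq_of_beq_eq_true h0)
        rw [← v.lw_append] at this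
        simpa [Rig.ev, List.append_assoc] using this
      · simp at h

theorem walk_spec {bound : ℕ} (hb : ∀ f < bound, D.Holds R (D.fct f)) :
    ∀ {Q : List ℕ} {i : ℕ} {π : List ℕ} {ws : List Wit} {j : ℕ} {ρ : List ℕ},
      D.walk S bound i π Q ws = some (j, ρ) →
        Same H (D.wst R i * R.ev π * prodW (fun c => if c < S.C.K then gen c else t) Q)
          (D.wst R j * R.ev ρ)
  | [], i, π, ws, j, ρ, h => by
    simp only [walk, Option.some.injEq, Prod.mk.injEq] at h
    obtain ⟨rfl, rfl⟩ := h
    simp [Same.refl]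
  | c :: Q, i, π, ws, j, ρ, h => by
    rw [walk.eq_def] at h
    dsimp only at h
    split at h
    · rename_i hc
      simp only [Bool.and_eq_true, Nat.blt_eq] at hc
      have a := walk_spec hb h
      rw [R.ev_append, ← mul_assoc] at a
      rw [prodW_cons, if_pos hc.1, ← mul_assoc]
      have e := R.cong (u := [c]) (w := v.lw [c]) (by simpa using hc.1) (v.lw_lt _)
        (by rw [prodW_cons, prodW_nil, mul_one]; exact (Rig.pev_letter v hc.1 hc.2).symm)
        (D.wst R i * R.ev π) (prodW (fun c => if c < S.C.K then gen c else t) Q)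
      rw [prodW_cons, prodW_nil, mul_one] at e
      exact e.trans a
    · split at h
      · rename_i hc
        have hc' := Nat.eq_of_beq_eq_true hc
        cases ws with
        | nil => simp at h
        | cons w ws =>
          dsimp only at h
          cases hs : D.tstep S bound i π w with
          | none => simp [hs] at h
          | some q =>
            obtain ⟨j1, ρ1⟩ := q
            simp only [hs] at h
            rw [prodW_cons, if_neg (by omega), ← mul_assoc]
            exact ((tstep_spec hb hs).mul_right _).trans (walk_spec hb h)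
      · simp at h

theorem fact_spec (y : D.Hyp R) {n : ℕ} (h : D.factOK S n = true)
    (hb : ∀ f < n, D.Holds R (D.fct f)) : D.Holds R (D.fct n) := by
  unfold factOK at h
  cases hf : D.fct n with
  | stab i p pi =>
    rw [hf] at h
    cases hp : D.prfs.getD n .base with
    | def' => (rw [hp] at h; simp at h)
    | rev k => (rw [hp] at h; simp at h)
    | path m ws => (rw [hp] at h; simp at h)
    | base =>
      rw [hp] at h
      simp only [Bool.and_eq_true] at h
      have hw : D.wst R 0 = 1 := by
        rw [Data.wst, dif_neg]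
        rw [y.par0]
        exact lt_irrefl 0
      obtain rfl := Nat.eq_of_beq_eq_true h.2
      exact ⟨by rw [← v.pev_append, (y.eq_spec h.1).2.2, v.pev_nil],
        by simpa [hw, Same] using R.ev_mem p⟩
    | ubase =>
      rw [hp] at h
      simp only [Bool.and_eq_true, Nat.blt_eq] at h
      obtain ⟨⟨⟨h1, hi⟩, hpar⟩, h0⟩ := h
      obtain ⟨hl, -, he⟩ := y.eq_spec h1
      refine ⟨by rw [← v.pev_append, he, v.pev_nil], ?_⟩
      have hp0 := Nat.eq_of_beq_eq_true hpar
      have hw : D.wst R i = R.ev (D.par.getD i (i, [])).2 * t := by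
        rw [Data.wst, dif_pos (by omega), hp0, Data.wst, dif_neg (by rw [y.par0]; exact lt_irrefl 0),
          one_mul]
      have hU := R.ev_memU (l := p) (fun m hm => hl m (List.mem_append_left _ hm))
        (Nat.eq_of_beq_eq_true h0)
      unfold Same
      rw [hw, mul_assoc _ t, R.comm _ hU]
      simpa [mul_assoc] using H.mul_mem (H.mul_mem (R.ev_mem _) (R.ev_mem p))
        (H.inv_mem (R.ev_mem (D.par.getD i (i, [])).2))
    | loop m u ws =>
      rw [hp] at h
      simp only [Bool.and_eq_true, Nat.blt_eq] at h
      obtain ⟨⟨⟨h1, hu⟩, hm⟩, h2⟩ := h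
      refine ⟨by rw [← v.pev_append, (y.eq_spec h1).2.2, v.pev_nil], ?_⟩
      cases hw : D.walk S n i u (D.menuS.getD m []) ws with
      | none => simp only [List.getD_eq_getElem?_getD] at hw h2; simp [hw] at h2
      | some q =>
        obtain ⟨i', π⟩ := q
        simp only [List.getD_eq_getElem?_getD] at hw h2
        simp only [hw, Bool.and_eq_true] at h2
        obtain rfl := Nat.eq_of_beq_eq_true h2.1
        have a := walk_spec (R := R) hb hw
        rw [y.menuS _ (by rw [List.getElem?_eq_getElem hm, Option.getD_some]; exact List.getElem_mem hm), mul_one] at a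
        have b := R.same_ev (y.eq_spec h2.2).2.2 (D.wst R i') 1
        rw [mul_one, mul_one, R.ev_append, ← mul_assoc] at b
        exact ((a.trans b).symm).of_mul_right
    | lift i0 u w1 w2 =>
      rw [hp] at h
      simp only [Bool.and_eq_true] at h
      obtain ⟨⟨h1, hu⟩, h2⟩ := h
      refine ⟨by rw [← v.pev_append, (y.eq_spec h1).2.2, v.pev_nil], ?_⟩
      cases ha : D.tstep S n i0 u w1 with
      | none => simp [ha] at h2
      | some qa =>
        cases hb' : D.tstep S n i0 u w2 with
        | none => simp [ha, hb'] at h2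
        | some qb =>
          obtain ⟨j1, a⟩ := qa
          obtain ⟨j2, b⟩ := qb
          simp only [ha, hb', Bool.and_eq_true] at h2
          obtain ⟨⟨hj1, hj2⟩, he⟩ := h2
          rw [Nat.eq_of_beq_eq_true hj1] at ha
          rw [Nat.eq_of_beq_eq_true hj2] at hb'
          have sa := tstep_spec (R := R) hb ha
          have sb := tstep_spec (R := R) hb hb'
          have se := R.same_ev (y.eq_spec he).2.2 (D.wst R i) 1
          rw [mul_one, mul_one, R.ev_append, ← mul_assoc] at se
          exact (se.trans (sb.symm.trans sa)).of_mul_right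
  | edge i g gi j h' =>
    rw [hf] at h
    cases hp : D.prfs.getD n .base with
    | base => (rw [hp] at h; simp at h)
    | ubase => (rw [hp] at h; simp at h)
    | loop m u ws => (rw [hp] at h; simp at h)
    | lift i0 u w1 w2 => (rw [hp] at h; simp at h)
    | def' =>
      rw [hp] at h
      simp only [Bool.and_eq_true, beq_iff_eq, Nat.blt_eq] at h
      obtain ⟨⟨⟨⟨h1, hij⟩, hpar⟩, hg⟩, hh⟩ := h
      refine ⟨by rw [← v.pev_append, (y.eq_spec h1).2.2, v.pev_nil], ?_⟩
      have hp0 := Nat.eq_of_beq_eq_true hpar
      have hw : D.wst R j = D.wst R i * R.ev g * t := by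
        rw [Data.wst, dif_pos (by omega), hp0, hg]
      subst hh
      rw [hw, R.ev_nil, mul_one]
      exact Same.refl _
    | rev k =>
      rw [hp] at h
      simp only [Bool.and_eq_true, Nat.blt_eq] at h
      obtain ⟨⟨h1, hk⟩, h2⟩ := h
      refine ⟨by rw [← v.pev_append, (y.eq_spec h1).2.2, v.pev_nil], ?_⟩
      have hh := hb k hk
      cases hf' : D.fct k with
      | stab a' p pi => simp [hf'] at h2
      | edge a' g0 gi0 b' h0 =>
        rw [hf'] at hh
        simp only [hf', Bool.and_eq_true] at h2
        obtain ⟨⟨⟨ha, hb'⟩, e1⟩, e2⟩ := h2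
        obtain rfl := Nat.eq_of_beq_eq_true ha
        obtain rfl := Nat.eq_of_beq_eq_true hb'
        have se1 := R.same_ev (y.eq_spec e1).2.2 (D.wst R b') t
        have se2 := R.same_ev (y.eq_spec e2).2.2 (D.wst R a') 1
        rw [mul_one, mul_one, R.ev_append, ← mul_assoc] at se2
        rw [R.ev_append, ← mul_assoc] at se1
        refine se1.trans (Same.trans ?_ se2.symm)
        have a0 := (hh.2.mul_right t⁻¹).symm
        rw [mul_inv_cancel_right] at a0
        have a1 := (y.tinv _).symm.trans a0
        have a2 := a1.mul_right (R.ev D.xa)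
        have a3 := R.same_ev (l := D.xb ++ D.xa) (m := [])
          (by rw [v.pev_append, y.xba, v.pev_nil]) (D.wst R b' * R.ev h0 * R.ev D.xa * t) 1
        rw [R.ev_append, R.ev_nil] at a3
        simp only [mul_one, ← mul_assoc] at a2 a3
        exact a3.symm.trans a2
    | path m ws =>
      rw [hp] at h
      simp only [Bool.and_eq_true, Nat.blt_eq] at h
      obtain ⟨⟨h1, hm⟩, h2⟩ := h
      refine ⟨by rw [← v.pev_append, (y.eq_spec h1).2.2, v.pev_nil], ?_⟩
      cases hw : D.walk S n i g (D.menuE.getD m []) ws with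
      | none => simp only [List.getD_eq_getElem?_getD] at hw h2; simp [hw] at h2
      | some q =>
        obtain ⟨j', π⟩ := q
        simp only [List.getD_eq_getElem?_getD] at hw h2
        simp only [hw, Bool.and_eq_true] at h2
        obtain rfl := Nat.eq_of_beq_eq_true h2.1
        have a := walk_spec (R := R) hb hw
        rw [y.menuE _ (by rw [List.getElem?_eq_getElem hm, Option.getD_some]; exact List.getElem_mem hm)] at a
        have b := R.same_ev (y.eq_spec h2.2).2.2 (D.wst R j') 1
        rw [mul_one, mul_one] at b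
        exact a.trans b

theorem facts_holds (y : D.Hyp R) {M : ℕ} (h : ∀ n < M, D.factOK S n = true) :
    ∀ n < M, D.Holds R (D.fct n) := by
  intro n
  induction n using Nat.strong_induction_on with
  | _ n ih => exact fun hn => fact_spec y (h n hn) fun f hf => ih f hf (hf.trans hn)

end Data

end CfsgLib.DCoset
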