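import Cfsg.Agent.Lib.DCoset.Tau
import Cfsg.Agent.Lib.DCoset.Upper

/-!
Checking that a word in the letters and the step is trivial on the set of cosets.
-/

set_option autoImplicit false

namespace CfsgLib.DCoset

open CfsgLib.CosetEnum Space

/-- A witness of one step: orbit and a product of generators. -/
structure LWit where
  /-- the orbit -/
  r : ℕ
  /-- generators with directions -/
  kk : List (ℕ × Bool)

/-- How a point of the suborbit is covered. -/
inductive Cov where
  | rep (q : ℕ) (u : List ℕ) (ws : List LWit) (js : List ℕ)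
  | child (s : ℕ) (pred : ℕ)

/-- A certificate that a word acts trivially. -/
structure RelCert where
  /-- the word, with `K` for the step -/
  Q : List ℕ
  /-- the second point fixed by the commuting subgroup -/
  q0 : ℕ
  /-- the orbit of `q0` under the stabiliser of `0`, as a mask -/
  O : ℕ
  /-- for each state and orbit, how the points are covered -/
  cov : List (List (List Cov))

namespace LData

variable (S : Space) (L : LData)

/-- one step -/
noncomputable def stepL (i : ℕ) (π : List ℕ) (w : LWit) : Option (ℕ × List ℕ) :=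
  let R := L.root i w.r
  if Nat.blt w.r (L.st i).roots.length &&
      allLt S.cnt (kProd (L.gK i) w.kk ++ (R.e ++ (R.gi ++ (kInv (L.gK i) w.kk ++ π)))) &&
      Nat.beq (S.app (R.gi ++ (kInv (L.gK i) w.kk ++ π)) 0) 0 then
    some (R.j, R.e ++ (kInv (L.gK i) w.kk ++ π))
  else none

/-- follow a word -/
noncomputable def walkL : ℕ → List ℕ → List ℕ → List LWit → Option (ℕ × List ℕ)
  | i, π, [], _ => some (i, π)
  | i, π, c :: Q, ws =>
    if Nat.blt c S.C.K && Nat.blt c S.cnt then walkL i (π ++ [c]) Q ws
    else if Nat.beq c S.C.K then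
      match ws with
      | [] => none
      | w :: ws =>
        match L.stepL S i π w with
        | none => none
        | some (j, ρ) => walkL j ρ Q ws
    else none

/-- cover the points of the suborbit for one orbit of one state -/
noncomputable def covFrom (C : RelCert) (i r : ℕ) : List Cov → ℕ → Option ℕ
  | [], mask => some mask
  | .rep q u ws js :: rest, mask =>
    if allLt S.cnt u && Nat.beq (S.app u q) C.q0 && Nat.beq (S.app u 0) 0 && Nat.blt q S.C.N &&
      (match L.walkL S i ((L.root i r).g ++ u) C.Q ws with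
        | none => false
        | some (i', π) => Nat.beq i' i &&
          L.eq S π (sift (L.st i).K js ++ ((L.root i r).g ++ u))) then
      covFrom C i r rest (Nat.lor mask (2 ^ q))
    else none
  | .child s pred :: rest, mask =>
    if Nat.blt s (gensOf (L.root i r).stb).length && Nat.blt pred S.C.N && Nat.testBit mask pred then
      covFrom C i r rest (Nat.lor mask (2 ^ S.app
        ((L.root i r).gi ++ ((((gensOf (L.root i r).stb).getD s ([], [])).1) ++ (L.root i r).g)) pred))
    else none

/-- the suborbit is closed -/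
noncomputable def orbOK (C : RelCert) : Bool :=
  Nat.blt C.q0 S.C.N && Nat.testBit C.O C.q0 &&
    Cert.allBelow S.C.N fun p => strict p fun p =>
      pick (Nat.testBit C.O p) ((gensOf L.U).all fun g => Nat.testBit C.O (S.app g.1 p)) true

/-- the check of one orbit of one state -/
noncomputable def relOK (C : RelCert) (i r : ℕ) : Bool :=
  match L.covFrom S C i r ((C.cov.getD i []).getD r []) 0 with
  | some mask => Nat.beq mask C.O
  | none => false

variable {S L} {v : S.Valid}

/-- a letter or the step -/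
noncomputable def opL (h : L.Valid S v) (ω : L.Omega v) (c : ℕ) : L.Omega v :=
  if c < S.C.K then L.rmul v ω ⟨v.pgen c, v.pgen_mem c⟩ else tau h ω

/-- the action of a word -/
noncomputable def opQ (h : L.Valid S v) (Q : List ℕ) (ω : L.Omega v) : L.Omega v :=
  Q.foldl (opL h) ω

/-- the element of a list of atoms -/
noncomputable def pel (v : S.Valid) (l : List ℕ) : ↥v.P := ⟨v.pev l, v.pev_mem l⟩

theorem step_spec (h : L.Valid S v) {i : Fin L.ns} {π : List ℕ} {w : LWit} {j : ℕ} {ρ : List ℕ}
    (e : L.stepL S i π w = some (j, ρ)) :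
    ∃ hj : j < L.ns, tau h (L.mkO v i (pel v π)) = L.mkO v ⟨j, hj⟩ (pel v ρ) := by
  unfold stepL at e
  dsimp only at e
  split at e
  · rename_i hc
    simp only [Bool.and_eq_true, Nat.blt_eq] at hc
    obtain ⟨⟨hr, hlt⟩, h0⟩ := hc
    simp only [Option.some.injEq, Prod.mk.injEq] at e
    obtain ⟨rfl, rfl⟩ := e
    obtain ⟨hj, -, -, -, -, -⟩ := h.root_spec i.2 hr
    refine ⟨hj, ?_⟩
    rw [tau_mkO]
    obtain ⟨hk, hkinv⟩ := v.kProd_mem (gs := L.gK i) (fun g hg => (h.gK_spec i.2 g hg).2.2) w.kk
    have hki : v.pev (kInv (L.gK i) w.kk) = (v.pev (kProd (L.gK i) w.kk))⁻¹ :=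
      eq_inv_of_mul_eq_one_right hkinv
    refine tauRaw_eq h i (pel v π) hr hk ?_ (j := ⟨_, hj⟩) rfl (pel v _) ?_
    · have hlt' : S.Lt ((L.root i w.r).gi ++ (kInv (L.gK i) w.kk ++ π)) := fun n hn =>
        allLt_iff.mp hlt n (List.mem_append_right _ (List.mem_append_right _ hn))
      have e0 : (v.pev ((L.root i w.r).gi ++ (kInv (L.gK i) w.kk ++ π))).unop v.zero = v.zero :=
        Fin.ext ((v.pev_apply hlt' v.zero).trans (Nat.eq_of_beq_eq_true h0))
      rw [v.pev_append, v.pev_append, hki, v.unop_mul_apply, v.unop_mul_apply, MulOpposite.unop_inv]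
        at e0
      change (v.pev (kProd (L.gK i) w.kk)).unop ((v.pev π)⁻¹.unop v.zero) = _
      rw [MulOpposite.unop_inv]
      conv_lhs => rw [← e0]
      simp [p0]
    · simp only [pel, v.pev_append, hki, mul_assoc]
  · simp at e

theorem walk_spec' (h : L.Valid S v) : ∀ {Q : List ℕ} {i : Fin L.ns} {π : List ℕ} {ws : List LWit}
    {j : ℕ} {ρ : List ℕ}, L.walkL S i π Q ws = some (j, ρ) →
      ∃ hj : j < L.ns, opQ h Q (L.mkO v i (pel v π)) = L.mkO v ⟨j, hj⟩ (pel v ρ)
  | [], i, π, ws, j, ρ, e => by
    simp only [walkL, Option.some.injEq, Prod.mk.injEq] at e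
    obtain ⟨rfl, rfl⟩ := e
    exact ⟨i.2, rfl⟩
  | c :: Q, i, π, ws, j, ρ, e => by
    rw [walkL.eq_def] at e
    dsimp only at e
    split at e
    · rename_i hc
      simp only [Bool.and_eq_true, Nat.blt_eq] at hc
      obtain ⟨hj, hh⟩ := walk_spec' h e
      refine ⟨hj, ?_⟩
      rw [← hh, opQ, List.foldl_cons, opQ]
      congr 1
      rw [opL, if_pos hc.1, rmul_mkO]
      congr 1
      refine Subtype.ext ?_
      simp only [pel, Subgroup.coe_mul, v.pev_append, Rig.pev_letter v hc.1 hc.2]
    · split at e
      · rename_i hc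
        have hc' := Nat.eq_of_beq_eq_true hc
        cases ws with
        | nil => simp at e
        | cons w ws =>
          dsimp only at e
          cases hs : L.stepL S i π w with
          | none => simp [hs] at e
          | some q =>
            obtain ⟨j1, ρ1⟩ := q
            simp only [hs] at e
            obtain ⟨hj1, hh1⟩ := step_spec h hs
            obtain ⟨hj, hh⟩ := walk_spec' h (i := ⟨j1, hj1⟩) e
            refine ⟨hj, ?_⟩
            rw [← hh, opQ, List.foldl_cons, opQ]
            congr 1
            rw [opL, if_neg (by omega), hh1]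
      · simp at e

/-- The commutation that the certificate needs. -/
def Comm (h : L.Valid S v) (C : RelCert) : Prop :=
  ∀ w : ↥v.P, w.1.unop v.zero = v.zero → (∀ hq : C.q0 < S.C.N, w.1.unop ⟨C.q0, hq⟩ = ⟨C.q0, hq⟩) →
    ∀ ω, opQ h C.Q (L.rmul v ω w) = L.rmul v (opQ h C.Q ω) w

theorem cov_spec (h : L.Valid S v) {C : RelCert} (hC : Comm h C) (hq0 : C.q0 < S.C.N)
    {i : Fin L.ns} {r : ℕ} (hr : r < (L.st i).roots.length) :
    ∀ {l : List Cov} {mask out : ℕ}, L.covFrom S C i r l mask = some out →
      (∀ q : Fin S.C.N, mask.testBit q = true → ∀ u : ↥v.P, u.1.unop v.zero = v.zero →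
        u.1.unop q = ⟨C.q0, hq0⟩ →
        opQ h C.Q (L.mkO v i (pel v (L.root i r).g * u)) = L.mkO v i (pel v (L.root i r).g * u)) →
      ∀ q : Fin S.C.N, out.testBit q = true → ∀ u : ↥v.P, u.1.unop v.zero = v.zero →
        u.1.unop q = ⟨C.q0, hq0⟩ →
        opQ h C.Q (L.mkO v i (pel v (L.root i r).g * u)) = L.mkO v i (pel v (L.root i r).g * u)
  | [], mask, out, e, hm => by
    simp only [covFrom, Option.some.injEq] at e
    exact e ▸ hm
  | .rep q uq ws js :: rest, mask, out, e, hm => by
    rw [covFrom, Option.ite_none_right_eq_some] at e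
    obtain ⟨hc, e⟩ := e
    · simp only [Bool.and_eq_true, Nat.blt_eq, allLt_iff] at hc
      obtain ⟨⟨⟨⟨hu, h1⟩, h2⟩, hq⟩, hw⟩ := hc
      refine cov_spec h hC hq0 hr e fun q' hq' u hu0 huq => ?_
      rw [show ∀ a b : ℕ, Nat.lor a b = a ||| b from fun _ _ => rfl,
        Nat.testBit_or, Bool.or_eq_true, Nat.testBit_two_pow, decide_eq_true_eq] at hq'
      rcases hq' with hq' | hq'
      · exact hm q' hq' u hu0 huq
      · cases hwl : L.walkL S i ((L.root i r).g ++ uq) C.Q ws with
        | none => simp [hwl] at hw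
        | some o =>
          obtain ⟨i', π⟩ := o
          simp only [hwl, Bool.and_eq_true] at hw
          obtain rfl : i' = (i : ℕ) := Nat.eq_of_beq_eq_true hw.1
          obtain ⟨hj, hh⟩ := walk_spec' h hwl
          have hfix : opQ h C.Q (L.mkO v i (pel v ((L.root i r).g ++ uq))) =
              L.mkO v i (pel v ((L.root i r).g ++ uq)) := by
            rw [hh]
            refine (mkO_eq_iff (i := i)).mpr ?_
            change v.pev _ * (v.pev π)⁻¹ ∈ _
            rw [(h.eq_spec hw.2).2.2, v.pev_append (sift _ _), mul_inv_rev, ← mul_assoc, mul_inv_cancel, one_mul]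
            exact inv_mem (v.sift_mem _ _)
          have e1 : (pel v uq).1.unop v.zero = v.zero :=
            Fin.ext ((v.pev_apply hu v.zero).trans (Nat.eq_of_beq_eq_true h2))
          have e2 : (pel v uq).1.unop q' = ⟨C.q0, hq0⟩ := Fin.ext (by
            rw [show ((pel v uq).1.unop q' : ℕ) = S.app uq q' from v.pev_apply hu q', ← hq']
            exact Nat.eq_of_beq_eq_true h1)
          have key := hC ((pel v uq)⁻¹ * u) ?_ ?_ (L.mkO v i (pel v ((L.root i r).g ++ uq)))
          · rw [hfix, rmul_mkO] at key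
            have : pel v ((L.root i r).g ++ uq) * ((pel v uq)⁻¹ * u) = pel v (L.root i r).g * u := by
              refine Subtype.ext ?_
              simp [pel, v.pev_append, mul_assoc]
            rwa [this] at key
          · rw [Subgroup.coe_mul, Subgroup.coe_inv, v.unop_mul_apply, MulOpposite.unop_inv,
              Equiv.Perm.inv_eq_iff_eq.mpr e1.symm, hu0]
          · intro _
            rw [Subgroup.coe_mul, Subgroup.coe_inv, v.unop_mul_apply, MulOpposite.unop_inv,
              Equiv.Perm.inv_eq_iff_eq.mpr e2.symm, huq]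
  | .child s pred :: rest, mask, out, e, hm => by
    rw [covFrom] at e
    split at e
    · rename_i hc
      simp only [Bool.and_eq_true, Nat.blt_eq] at hc
      obtain ⟨⟨hs, hp⟩, hb⟩ := hc
      refine cov_spec h hC hq0 hr e fun q' hq' u hu0 huq => ?_
      rw [show ∀ a b : ℕ, Nat.lor a b = a ||| b from fun _ _ => rfl,
        Nat.testBit_or, Bool.or_eq_true, Nat.testBit_two_pow, decide_eq_true_eq] at hq'
      rcases hq' with hq' | hq'
      · exact hm q' hq' u hu0 huq
      · obtain ⟨-, hg, hgi, -, hginv, -⟩ := h.root_spec i.2 hr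
        have hk := h.root i i.2 r hr
        simp only [rootOK, Bool.and_eq_true, List.all_eq_true, List.mem_range] at hk
        obtain ⟨⟨hf, e1⟩, -⟩ := hk.2 s hs
        obtain ⟨hls, -, es⟩ := h.eq_spec e1
        generalize hsl : ((gensOf (L.root i r).stb).getD s ([], [])).1 = sl at hf hls es hq'
        let sg : ↥v.P := pel v ((L.root i r).gi ++ (sl ++ (L.root i r).g))
        have hsg : ∀ p : Fin S.C.N, (sg.1.unop p : ℕ) = S.app ((L.root i r).gi ++ (sl ++ (L.root i r).g)) p :=
          fun p => v.pev_apply (hgi.append (hls.append hg)) p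
        have h0 : sg.1.unop v.zero = v.zero := by
          simp only [sg, pel, v.pev_append, v.unop_mul_apply]
          have : (v.pev sl).unop ((v.pev (L.root i r).gi).unop v.zero) =
              (v.pev (L.root i r).gi).unop v.zero := Fin.ext (by
            rw [v.pev_apply hls, v.pev_apply hgi]
            exact Nat.eq_of_beq_eq_true hf)
          rw [this, hginv, MulOpposite.unop_inv, Equiv.Perm.inv_def, Equiv.apply_symm_apply]
        have key := hm ⟨pred, hp⟩ hb (sg * u) (by rw [Subgroup.coe_mul, v.unop_mul_apply, h0, hu0])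
          (by
            rw [Subgroup.coe_mul, v.unop_mul_apply, ← huq]
            congr 1
            exact Fin.ext ((hsg _).trans hq'))
        have e3 : L.mkO v i (pel v (L.root i r).g * (sg * u)) = L.mkO v i (pel v (L.root i r).g * u) := by
          refine mkO_eq_iff.mpr ?_
          have hsK : v.pev sl ∈ L.grpK v i := by
            rw [es]
            exact (v.kProd_mem (fun g hg => (h.gK_spec i.2 g hg).2.2) _).1
          simp only [sg, pel, Subgroup.coe_mul, v.pev_append, hginv]
          simpa [mul_assoc] using inv_mem hsK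
        rwa [e3] at key
    · simp at e

theorem Valid.exists_word (h : L.Valid S v) (u : ↥v.P) :
    ∃ w : List ℕ, (∀ g ∈ w, g < S.C.K) ∧ prodW v.pgen w = u.1 := by
  obtain ⟨u, hu⟩ := u
  induction hu using Subgroup.closure_induction with
  | mem y hy => obtain ⟨g, hg, rfl⟩ := hy; exact ⟨[g], by simpa using hg, by simp⟩
  | one => exact ⟨[], by simp, rfl⟩
  | mul x y _ _ hx hy =>
    obtain ⟨a, ha, ha'⟩ := hx
    obtain ⟨b, hb, hb'⟩ := hy
    exact ⟨a ++ b, fun g hg => (List.mem_append.mp hg).elim (ha g) (hb g),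
      by rw [prodW_append, ha', hb']⟩
  | inv x _ hx =>
    obtain ⟨a, ha, ha'⟩ := hx
    exact ⟨S.C.revInv a, Rig.revInv_lt v ha,
      by rw [(v.model h.inv ⊤ fun _ _ => trivial).revInv_eq, ha']⟩

/-- The word acts trivially. -/
theorem Valid.opQ_eq (h : L.Valid S v) {C : RelCert} (hC : Comm h C) (hO : L.orbOK S C = true)
    (hrel : ∀ i < L.ns, ∀ r < (L.st i).roots.length, L.relOK S C i r = true) :
    ∀ ω, opQ h C.Q ω = ω := by
  classical
  simp only [orbOK, Bool.and_eq_true, Nat.blt_eq] at hO
  obtain ⟨⟨hq0, hOq⟩, hcl⟩ := hO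
  have hU : ∀ u ∈ v.grp (gensOf L.U), ∀ p : Fin S.C.N,
      C.O.testBit p = true → C.O.testBit (u.unop p) = true := by
    intro u hu
    induction hu using Subgroup.closure_induction with
    | mem y hy =>
      obtain ⟨g, hg, rfl⟩ := hy
      intro p hp
      have e := Cert.allBelow_spec hcl p p.2
      simp only [strict_eq, hp, pick_true, List.all_eq_true] at e
      rw [v.pev_apply (h.ufix g hg).1]
      exact e g hg
    | one => exact fun p hp => hp
    | mul x y _ _ hx hy => exact fun p hp => by rw [v.unop_mul_apply]; exact hy _ (hx p hp)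
    | inv x _ hx =>
      intro p hp
      have hmaps : ∀ a ∈ (Finset.univ.filter fun q : Fin S.C.N => C.O.testBit q = true),
          x.unop a ∈ Finset.univ.filter fun q : Fin S.C.N => C.O.testBit q = true := by
        intro a ha
        simp only [Finset.mem_filter, Finset.mem_univ, true_and] at ha ⊢
        exact hx a ha
      obtain ⟨q, hq, hqe⟩ := Finset.surjOn_of_injOn_of_card_le _ hmaps x.unop.injective.injOn le_rfl
        (show p ∈ _ by simpa using hp)
      rw [MulOpposite.unop_inv, Equiv.Perm.inv_eq_iff_eq.mpr hqe.symm]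
      simpa using hq
  intro ω
  obtain ⟨i, x, rfl⟩ := exists_mkO ω
  obtain ⟨hr, k, hk, hkp⟩ := h.exists_k i.2 (ptOf v x.1)
  obtain ⟨-, hg, hgi, -, hginv, -⟩ := h.root_spec i.2 hr
  let u : ↥v.P := (pel v (L.root i (L.colOf i (ptOf v x.1))).g)⁻¹ *
    (⟨k, h.grpK_le _ hk⟩⁻¹ * x)
  have hu0 : u.1.unop v.zero = v.zero := by
    simp only [u, pel, Subgroup.coe_mul, Subgroup.coe_inv, v.unop_mul_apply, ← hginv]
    change x.1.unop (k⁻¹.unop (L.p0 v i _)) = _
    rw [MulOpposite.unop_inv, Equiv.Perm.inv_eq_iff_eq.mpr hkp.symm, ptOf, MulOpposite.unop_inv,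
      Equiv.Perm.inv_def, Equiv.apply_symm_apply]
  have hx : L.mkO v i x = L.mkO v i (pel v (L.root i (L.colOf i (ptOf v x.1))).g * u) := by
    refine mkO_eq_iff.mpr ?_
    simpa [u, mul_assoc] using inv_mem hk
  have huU : u.1 ∈ v.grp (gensOf L.U) := by
    obtain ⟨w, hw, hwe⟩ := h.exists_word u
    rw [← hwe]
    refine v.mem_of_fix h.inv h.sub hw ?_
    have e := v.pgen_apply hw v.zero
    rw [hwe, hu0] at e
    exact e.symm
  have hq := hU _ (inv_mem huU) ⟨C.q0, hq0⟩ hOq
  have hrk := hrel i i.2 _ hr
  unfold relOK at hrk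
  cases hcv : L.covFrom S C i (L.colOf i (ptOf v x.1))
      ((C.cov.getD i []).getD (L.colOf i (ptOf v x.1)) []) 0 with
  | none => simp only [List.getD_eq_getElem?_getD] at hcv hrk; simp [hcv] at hrk
  | some out =>
    rw [hcv] at hrk
    obtain rfl := Nat.eq_of_beq_eq_true hrk
    rw [hx]
    refine cov_spec h hC hq0 hr hcv (fun q hq => by simp at hq) (u.1⁻¹.unop ⟨C.q0, hq0⟩) hq u hu0 ?_
    rw [MulOpposite.unop_inv, Equiv.Perm.inv_def, Equiv.apply_symm_apply]

end LData

end CfsgLib.DCoset
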