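import Cfsg.Agent.Lib.DCoset.Upper

/-!
A closed set of certified double cosets bounds the index of `H`.
-/

set_option autoImplicit false

namespace CfsgLib.DCoset

open CfsgLib.CosetEnum

namespace Data

variable (S : Space) (D : Data)

/-- grow the set of points of state `i` known to have a step along `t` -/
noncomputable def reachFrom (M i : ℕ) : List (ℕ × ℕ) → ℕ → Option ℕ
  | [], mask => some mask
  | (f, pred) :: r, mask =>
    if Nat.blt f M then
      match D.fct f with
      | .edge i' _ gi _ _ =>
        if Nat.beq i' i && Space.allLt S.cnt gi then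
          reachFrom M i r (Nat.lor mask (2 ^ S.app gi 0))
        else none
      | .stab i' _ pi =>
        if Nat.beq i' i && Space.allLt S.cnt pi && Nat.testBit mask pred then
          reachFrom M i r (Nat.lor mask (2 ^ S.app pi pred))
        else none
    else none

/-- the check that every point of state `i` has a step along `t` -/
noncomputable def reachOK (M i : ℕ) (tree : List (ℕ × ℕ)) : Bool :=
  match D.reachFrom S M i tree 0 with
  | some mask => Nat.beq mask (2 ^ S.C.N - 1)
  | none => false

/-- point `p` of state `i` has a step along `t` -/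
def Reach (M i p : ℕ) : Prop :=
  ∃ f g gi j h kk k ki, f < M ∧ D.fct f = .edge i g gi j h ∧ D.kList M i kk = some (k, ki) ∧
    S.Lt (gi ++ ki) ∧ S.app (gi ++ ki) 0 = p

variable {S D}

theorem reachFrom_spec {M i : ℕ} : ∀ {tree : List (ℕ × ℕ)} {mask out : ℕ},
    D.reachFrom S M i tree mask = some out → (∀ p, mask.testBit p = true → D.Reach S M i p) →
      ∀ p, out.testBit p = true → D.Reach S M i p
  | [], mask, out, h, hm => by
    simp only [reachFrom, Option.some.injEq] at h
    exact h ▸ hm
  | (f, pred) :: r, mask, out, h, hm => by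
    rw [reachFrom] at h
    split at h
    · rename_i hf
      rw [Nat.blt_eq] at hf
      cases hfc : D.fct f with
      | edge i' g gi j hh =>
        rw [hfc] at h
        dsimp only at h
        split at h
        · rename_i hc
          simp only [Bool.and_eq_true] at hc
          obtain rfl := Nat.eq_of_beq_eq_true hc.1
          refine reachFrom_spec h fun p hp => ?_
          rw [show Nat.lor mask (2 ^ S.app gi 0) = mask ||| 2 ^ S.app gi 0 from rfl,
            Nat.testBit_or, Bool.or_eq_true, Nat.testBit_two_pow, decide_eq_true_eq] at hp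
          rcases hp with hp | hp
          · exact hm p hp
          · refine ⟨f, g, gi, j, hh, [], [], [], hf, hfc, rfl, ?_, by simpa using hp⟩
            simpa [Space.Lt] using Space.allLt_iff.mp hc.2
        · simp at h
      | stab i' p0 pi =>
        rw [hfc] at h
        dsimp only at h
        split at h
        · rename_i hc
          simp only [Bool.and_eq_true] at hc
          obtain ⟨⟨hi, hlt⟩, hb⟩ := hc
          obtain rfl := Nat.eq_of_beq_eq_true hi
          refine reachFrom_spec h fun p hp => ?_
          rw [show Nat.lor mask (2 ^ S.app pi pred) = mask ||| 2 ^ S.app pi pred from rfl,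
            Nat.testBit_or, Bool.or_eq_true, Nat.testBit_two_pow, decide_eq_true_eq] at hp
          rcases hp with hp | hp
          · exact hm p hp
          · obtain ⟨f1, g, gi, j, hh, kk, k, ki, h1, h2, h3, h4, h5⟩ := hm pred hb
            refine ⟨f1, g, gi, j, hh, (f, false) :: kk, p0 ++ k, ki ++ pi, h1, h2, ?_, ?_, ?_⟩
            · rw [kList, hfc, h3]
              simp [hf]
            · rw [← List.append_assoc]
              exact h4.append (Space.allLt_iff.mp hlt)
            · rw [← List.append_assoc, Space.app_append, h5, hp]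
        · simp at h
    · simp at h

theorem reach_of_ok {M i : ℕ} {tree : List (ℕ × ℕ)} (h : D.reachOK S M i tree = true) :
    ∀ p < S.C.N, D.Reach S M i p := by
  unfold reachOK at h
  cases hr : D.reachFrom S M i tree 0 with
  | none => simp [hr] at h
  | some out =>
    rw [hr] at h
    have e := Nat.eq_of_beq_eq_true h
    intro p hp
    refine reachFrom_spec hr (fun q hq => by simp at hq) p ?_
    rw [e, Nat.testBit_two_pow_sub_one, decide_eq_true hp]

end Data

variable {G : Type*} [Group G] {S : Space}

/-- the subgroup of the stabiliser facts of state `i` -/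
noncomputable def Data.K (D : Data) (v : S.Valid) (M i : ℕ) : Subgroup ↥v.P :=
  Subgroup.closure {x | ∃ f < M, ∃ p pi, D.fct f = .stab i p pi ∧ x.1 = v.pev p}

/-- the cosets of all states -/
abbrev Data.Omega (D : Data) (v : S.Valid) (M : ℕ) : Type :=
  Σ i : Fin D.ns, Quotient (QuotientGroup.rightRel (D.K v M i))

namespace Data

variable {D : Data} {v : S.Valid} {gen : ℕ → G} {H U : Subgroup G} {t : G} {R : Rig v gen H U t}

theorem exists_pword (R : Rig v gen H U t) (x : ↥v.P) :
    ∃ w : List ℕ, (∀ g ∈ w, g < S.C.K) ∧ prodW v.pgen w = x.1 := by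
  obtain ⟨x, hx⟩ := x
  induction hx using Subgroup.closure_induction with
  | mem y hy => obtain ⟨g, hg, rfl⟩ := hy; exact ⟨[g], by simpa using hg, by simp⟩
  | one => exact ⟨[], by simp, rfl⟩
  | mul x y _ _ hx hy =>
    obtain ⟨a, ha, ha'⟩ := hx
    obtain ⟨b, hb, hb'⟩ := hy
    exact ⟨a ++ b, fun g hg => (List.mem_append.mp hg).elim (ha g) (hb g),
      by rw [prodW_append, ha', hb']⟩
  | inv x _ hx =>
    obtain ⟨a, ha, ha'⟩ := hx
    exact ⟨S.C.revInv a, Rig.revInv_lt v ha, by rw [R.pmodel.revInv_eq, ha']⟩

/-- a word of an element of the permutation group -/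
noncomputable def pword (R : Rig v gen H U t) (x : ↥v.P) : List ℕ := (exists_pword R x).choose

theorem pword_lt (R : Rig v gen H U t) (x : ↥v.P) : ∀ g ∈ pword R x, g < S.C.K :=
  (exists_pword R x).choose_spec.1

theorem pword_eq (R : Rig v gen H U t) (x : ↥v.P) : prodW v.pgen (pword R x) = x.1 :=
  (exists_pword R x).choose_spec.2

theorem same_K {M i : ℕ} (hb : ∀ f < M, D.Holds R (D.fct f)) {x : ↥v.P} (hx : x ∈ D.K v M i) :
    Same H (D.wst R i * prodW gen (pword R x)) (D.wst R i) := by
  induction hx using Subgroup.closure_induction with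
  | mem y hy =>
    obtain ⟨f, hf, p, pi, hfc, hy⟩ := hy
    have h := hb f hf
    rw [hfc] at h
    have c := R.cong (pword_lt R y) (v.lw_lt p) ((pword_eq R y).trans hy) (D.wst R i) 1
    rw [mul_one, mul_one] at c
    exact c.trans h.2
  | one =>
    have c := R.cong (pword_lt R (1 : ↥v.P)) (w := []) (by simp)
      ((pword_eq R 1).trans (by simp)) (D.wst R i) 1
    simpa using c
  | mul x y _ _ hx hy =>
    have c := R.cong (pword_lt R (x * y)) (w := pword R x ++ pword R y)
      (fun g hg => (List.mem_append.mp hg).elim (pword_lt R x g) (pword_lt R y g))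
      (by rw [pword_eq, prodW_append, pword_eq, pword_eq]; rfl) (D.wst R i) 1
    rw [mul_one, mul_one, prodW_append, ← mul_assoc] at c
    exact c.trans ((hx.mul_right _).trans hy)
  | inv x _ hx =>
    have c := R.cong (u := pword R x⁻¹ ++ pword R x) (w := [])
      (fun g hg => (List.mem_append.mp hg).elim (pword_lt R _ g) (pword_lt R _ g)) (by simp)
      (by rw [prodW_append, pword_eq, pword_eq]; simp) (D.wst R i) 1
    rw [mul_one, mul_one, prodW_append, prodW_nil, mul_one, ← mul_assoc] at c
    exact (c.trans hx.symm).of_mul_right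

/-- the coset of a point of the set -/
noncomputable def toCoset {M : ℕ} (y : ∀ f, f < M → D.Holds R (D.fct f)) :
    D.Omega v M → G ⧸ H := fun ω =>
  Quotient.liftOn ω.2 (fun x => (((D.wst R ω.1 * prodW gen (pword R x))⁻¹ : G) : G ⧸ H))
    fun a b hab => by
      have hk : b * a⁻¹ ∈ D.K v M ω.1 := QuotientGroup.rightRel_apply.mp hab
      rw [QuotientGroup.eq, inv_inv]
      have h1 := same_K y hk
      have c := R.cong (pword_lt R b) (w := pword R (b * a⁻¹) ++ pword R a)
        (fun g hg => (List.mem_append.mp hg).elim (pword_lt R _ g) (pword_lt R _ g))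
        (by rw [prodW_append, pword_eq, pword_eq, pword_eq]; simp) (D.wst R ω.1) 1
      rw [mul_one, mul_one, prodW_append, ← mul_assoc] at c
      exact (c.trans (h1.mul_right _)).symm

/-- The certified double cosets are all of them. -/
theorem toCoset_surjective {M : ℕ} (y : D.Hyp R) (hb : ∀ f < M, D.Holds R (D.fct f))
    (hns : 0 < D.ns)
    (hj : ∀ f < M, ∀ i g gi j h, D.fct f = .edge i g gi j h → j < D.ns)
    (hreach : ∀ i < D.ns, ∀ p < S.C.N, D.Reach S M i p) :
    Function.Surjective (toCoset (M := M) hb) := by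
  let T : Set G := {x | ∃ i < D.ns, ∃ w : List ℕ, (∀ g ∈ w, g < S.C.K) ∧
    Same H x (D.wst R i * prodW gen w)}
  have hH : ∀ a ∈ H, ∀ x ∈ T, x * a ∈ T := by
    rintro a ha x ⟨i, hi, w, hw, hx⟩
    obtain ⟨u, hu, rfl⟩ := R.exists_word ha
    refine ⟨i, hi, w ++ u, fun g hg => (List.mem_append.mp hg).elim (hw g) (hu g), ?_⟩
    rw [prodW_append, ← mul_assoc]
    exact hx.mul_right _
  have ht : ∀ x ∈ T, x * t ∈ T := by
    rintro x ⟨i, hi, w, hw, hx⟩
    let p := S.C.run 0 (S.C.revInv w)
    have hp : p < S.C.N := v.action.run_lt v.complete.N_pos (Rig.revInv_lt v hw)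
    obtain ⟨f, g, gi, j, h, kk, k, ki, hf, hfc, hk, hlt, hap⟩ := hreach i hi p hp
    have hh := hb f hf
    rw [hfc] at hh
    have h0 : S.C.run 0 (v.lw (gi ++ ki) ++ w) = 0 := by
      rw [run_append, v.run_lw hlt v.complete.N_pos, hap]
      have e := v.pgen_apply (w := S.C.revInv w ++ w)
        (fun g hg => (List.mem_append.mp hg).elim (Rig.revInv_lt v hw g) (hw g)) v.zero
      rw [prodW_append, R.pmodel.revInv_eq, inv_mul_cancel, run_append] at e
      exact e.symm
    refine ⟨j, hj f hf i g gi j h hfc, v.lw (h ++ (gi ++ ki)) ++ w,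
      fun c hc => (List.mem_append.mp hc).elim (v.lw_lt _ c) (hw c), ?_⟩
    exact (hx.mul_right t).trans (step_word hh (kList_spec hb hk) hw h0)
  have ht' : ∀ n : ℕ, ∀ x ∈ T, x * t ^ n ∈ T := by
    intro n
    induction n with
    | zero => intro x hx; simpa using hx
    | succ n ih => intro x hx; rw [pow_succ, ← mul_assoc]; exact ht _ (ih x hx)
  have hti : ∀ x ∈ T, x * t⁻¹ ∈ T := by
    intro x hx
    obtain ⟨i, hi, w, hw, h⟩ := hH _ (R.ev_mem D.xb) _ (ht _ (hH _ (R.ev_mem D.xa) x hx))
    refine ⟨i, hi, w, hw, (y.tinv x).trans ?_⟩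
    simpa [mul_assoc] using h
  have hall : ∀ x : G, x ∈ T := by
    intro x
    have hx : x ∈ Subgroup.closure (insert t (H : Set G)) := by rw [R.gen_top]; trivial
    induction hx using Subgroup.closure_induction_right with
    | one => exact ⟨0, hns, [], by simp, by
        rw [Data.wst, dif_neg (by rw [y.par0]; exact lt_irrefl 0)]; simp [Same.refl]⟩
    | mul_right a _ b hb' ih =>
      rcases hb' with rfl | hb'
      · exact ht a ih
      · exact hH b hb' a ih
    | mul_inv_cancel a _ b hb' ih =>
      rcases hb' with rfl | hb'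
      · exact hti a ih
      · exact hH _ (inv_mem hb') a ih
  intro q
  induction q using QuotientGroup.induction_on with
  | _ x =>
    obtain ⟨i, hi, w, hw, hs⟩ := hall x⁻¹
    have hmem := v.prodW_mem w
    refine ⟨⟨⟨i, hi⟩, Quotient.mk _ ⟨prodW v.pgen w, hmem⟩⟩, ?_⟩
    change (((D.wst R i * prodW gen (pword R ⟨_, hmem⟩))⁻¹ : G) : G ⧸ H) = _
    rw [QuotientGroup.eq, inv_inv]
    have c := R.cong (pword_lt R ⟨_, hmem⟩) hw (pword_eq R _) (D.wst R i) 1
    rw [mul_one, mul_one] at c
    have := c.trans hs.symm
    simpa [Same] using this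

end Data

end CfsgLib.DCoset
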