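import Cfsg.Agent.Lib.DCoset.Closed
import Cfsg.Agent.Lib.DCoset.Check

/-!
The exact index of `H` from a closure and an action on the cosets of the certified stabilisers.
-/

set_option autoImplicit false

namespace CfsgLib.DCoset

open CfsgLib.CosetEnum Space

namespace LData

variable {S : Space} {L : LData} {v : S.Valid}

/-- right multiplication as a permutation -/
noncomputable def rmulPerm (L : LData) (v : S.Valid) (x : ↥v.P) : Equiv.Perm (L.Omega v) where
  toFun ω := L.rmul v ω x
  invFun ω := L.rmul v ω x⁻¹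
  left_inv ω := by simp only [rmul_mul, mul_inv_cancel, rmul_one]
  right_inv ω := by simp only [rmul_mul, inv_mul_cancel, rmul_one]

/-- right multiplication as a homomorphism to the opposite of the permutations -/
noncomputable def rmulHom (L : LData) (v : S.Valid) : ↥v.P →* (Equiv.Perm (L.Omega v))ᵐᵒᵖ where
  toFun x := MulOpposite.op (rmulPerm L v x)
  map_one' := MulOpposite.unop_injective (Equiv.ext fun ω => rmul_one ω)
  map_mul' x y := MulOpposite.unop_injective (Equiv.ext fun ω => (rmul_mul ω x y).symm)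

theorem rmulHom_apply (x : ↥v.P) (ω : L.Omega v) : (rmulHom L v x).unop ω = L.rmul v ω x := rfl

instance finite_omega : Finite (L.Omega v) :=
  haveI : Finite ↥v.P := inferInstance
  inferInstance

theorem card_quot (h : L.Valid S v) {i : ℕ} (hi : i < L.ns) :
    Nat.card (Quotient (QuotientGroup.rightRel ((L.grpK v i).subgroupOf v.P))) *
      (L.st i).size = S.C.N * Nat.card (v.grp (gensOf L.U)) := by
  rw [Nat.card_congr (QuotientGroup.quotientRightRelEquivQuotientLeftRel _),
    ← v.card_P h.inv h.sub h.ufix, ← h.card_K hi,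
    ← Nat.card_congr (Subgroup.subgroupOfEquivOfLe (h.grpK_le i)).toEquiv, mul_comm]
  exact Subgroup.card_mul_index _

/-- The size of the set of cosets. -/
theorem card_omega (h : L.Valid S v) {n : ℕ}
    (hpos : ∀ i < L.ns, 0 < (L.st i).size)
    (hn : ((List.range L.ns).map fun i =>
      S.C.N * Nat.card (v.grp (gensOf L.U)) / (L.st i).size).sum = n) :
    Nat.card (L.Omega v) = n := by
  classical
  haveI : Finite ↥v.P := inferInstance
  rw [Nat.card_sigma, ← hn]
  have e : ∀ i : Fin L.ns,
      Nat.card (Quotient (QuotientGroup.rightRel ((L.grpK v i).subgroupOf v.P))) =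
        S.C.N * Nat.card (v.grp (gensOf L.U)) / (L.st i).size := fun i => by
    rw [← card_quot h i.2, Nat.mul_div_cancel _ (hpos i i.2)]
  simp only [e]
  exact Fin.sum_univ_eq_sum_range
    (fun i => S.C.N * Nat.card (v.grp (gensOf L.U)) / (L.st i).size) L.ns

end LData

variable {G : Type*} [Group G] {S : Space} {v : S.Valid} {gen : ℕ → G} {H U : Subgroup G} {t : G}

/-- The link between a closure and a set of cosets. -/
noncomputable def linkOK (D : Data) (L : LData) (S : Space) (M i : ℕ)
    (wit : List (List (ℕ × Bool))) : Bool :=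
  (List.range (L.gK i).length).all fun k =>
    match D.kList M i (wit.getD k []) with
    | some (p, _) => D.eq S ((L.gK i).getD k ([], [])).1 p
    | none => false

/-- State `j` is reached from its parent. -/
noncomputable def parOK (D : Data) (L : LData) (S : Space) (j : ℕ) (w : LWit) (js : List ℕ) :
    Bool :=
  let par := D.par.getD j (j, [])
  Nat.blt par.1 j && Space.allLt S.cnt par.2 &&
    match L.stepL S par.1 par.2 w with
    | some (j', ρ) => Nat.beq j' j && L.eq S ρ (sift (L.st j).K js)
    | none => false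

theorem Data.kList_mem {D : Data} {R : Rig v gen H U t} {M i : ℕ}
    (hb : ∀ f < M, D.Holds R (D.fct f)) :
    ∀ {kk : List (ℕ × Bool)} {k ki : List ℕ}, D.kList M i kk = some (k, ki) →
      (⟨v.pev k, v.pev_mem k⟩ : ↥v.P) ∈ D.K v M i
  | [], k, ki, h => by
    simp only [Data.kList, Option.some.injEq, Prod.mk.injEq] at h
    obtain ⟨rfl, rfl⟩ := h
    have : (⟨v.pev [], v.pev_mem []⟩ : ↥v.P) = 1 := Subtype.ext v.pev_nil
    rw [this]
    exact one_mem _
  | (f, s) :: r, k, ki, h => by
    rw [Data.kList] at h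
    cases hf : D.fct f with
    | edge i' g gi j' h' => simp [hf] at h
    | stab i' p pi =>
      cases hr : D.kList M i r with
      | none => simp [hf, hr] at h
      | some q =>
        obtain ⟨k0, ki0⟩ := q
        simp only [hf, hr, Option.ite_none_right_eq_some] at h
        obtain ⟨hc, h⟩ := h
        simp only [Bool.and_eq_true, Nat.blt_eq] at hc
        have hi' := Nat.eq_of_beq_eq_true hc.2
        have hp : (⟨v.pev p, v.pev_mem p⟩ : ↥v.P) ∈ D.K v M i :=
          Subgroup.subset_closure ⟨f, hc.1, p, pi, hi' ▸ hf, rfl⟩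
        have hh := hb f hc.1
        rw [hf] at hh
        have ih := Data.kList_mem hb hr
        cases s with
        | false =>
          simp only [Bool.false_eq_true, ↓reduceIte, Option.some.injEq, Prod.mk.injEq] at h
          obtain ⟨rfl, rfl⟩ := h
          have := mul_mem hp ih
          convert this using 2
          exact v.pev_append p k0
        | true =>
          simp only [↓reduceIte, Option.some.injEq, Prod.mk.injEq] at h
          obtain ⟨rfl, rfl⟩ := h
          have := mul_mem (inv_mem hp) ih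
          convert this using 2
          simp only [v.pev_append, eq_inv_of_mul_eq_one_right hh.1]
          rfl

/-- Everything known about the two certificates. -/
structure Both (R : Rig v gen H U t) (D : Data) (L : LData) (M n : ℕ) : Prop where
  hyp : D.Hyp R
  low : L.Valid S v
  ns : D.ns = L.ns
  nsPos : 0 < L.ns
  facts : ∀ f < M, D.factOK S f = true
  targets : ∀ f < M, ∀ i g gi j h, D.fct f = .edge i g gi j h → j < D.ns
  reach : ∀ i < D.ns, ∀ p < S.C.N, D.Reach S M i p
  link : ∀ i < L.ns, ∃ wit, linkOK D L S M i wit = true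
  par : ∀ j < L.ns, 0 < j → ∃ w js, parOK D L S j w js = true
  full : (L.st 0).size = S.C.N * Nat.card (v.grp (gensOf L.U))
  pos : ∀ i < L.ns, 0 < (L.st i).size
  size : ((List.range L.ns).map fun i =>
    S.C.N * Nat.card (v.grp (gensOf L.U)) / (L.st i).size).sum = n

/-- A right action extending right multiplication and the step. -/
structure Extends {D : Data} {L : LData} {M n : ℕ} {R : Rig v gen H U t} (b : Both R D L M n)
    (ψ : G →* (Equiv.Perm (L.Omega v))ᵐᵒᵖ) : Prop where
  letter : ∀ c < S.C.K, ψ (gen c) = LData.rmulHom L v ⟨v.pgen c, v.pgen_mem c⟩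
  extra : ∀ ω, (ψ t).unop ω = LData.tau b.low ω

namespace Both

variable {D : Data} {L : LData} {M n : ℕ} {R : Rig v gen H U t}

/-- the base coset -/
noncomputable def base (b : Both R D L M n) : L.Omega v := L.mkO v ⟨0, b.nsPos⟩ 1

theorem grp_zero (b : Both R D L M n) : L.grpK v 0 = v.P :=
  Subgroup.eq_of_le_of_card_ge (b.low.grpK_le 0)
    (by rw [v.card_P b.low.inv b.low.sub b.low.ufix, b.low.card_K b.nsPos, b.full])

theorem mkO_zero (b : Both R D L M n) (x : ↥v.P) : L.mkO v ⟨0, b.nsPos⟩ x = b.base := by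
  refine LData.mkO_eq_iff.mpr ?_
  rw [b.grp_zero]
  exact mul_mem (one_mem _) (inv_mem x.2)

theorem finite_quot_le (b : Both R D L M n) :
    Finite (G ⧸ H) ∧ H.index ≤ n := by
  classical
  have hb := Data.facts_holds b.hyp b.facts
  have hs := Data.toCoset_surjective (M := M) b.hyp hb (by rw [b.ns]; exact b.nsPos) b.targets b.reach
  haveI : Finite (D.Omega v M) := inferInstance
  refine ⟨Finite.of_surjective _ hs, (Nat.card_le_card_of_surjective _ hs).trans ?_⟩
  rw [← LData.card_omega b.low b.pos b.size, Nat.card_sigma, Nat.card_sigma]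
  have e : ∀ i : Fin L.ns,
      Nat.card (Quotient (QuotientGroup.rightRel (D.K v M i))) ≤
        Nat.card (Quotient (QuotientGroup.rightRel ((L.grpK v i).subgroupOf v.P))) := by
    intro i
    rw [Nat.card_congr (QuotientGroup.quotientRightRelEquivQuotientLeftRel _),
      Nat.card_congr (QuotientGroup.quotientRightRelEquivQuotientLeftRel _)]
    refine Nat.le_of_dvd (Nat.pos_of_ne_zero Subgroup.index_ne_zero_of_finite)
      (Subgroup.index_dvd_of_le ?_)
    intro x hx
    rw [Subgroup.mem_subgroupOf] at hx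
    have hmap : L.grpK v i ≤ (D.K v M i).map v.P.subtype := by
      refine (Subgroup.closure_le _).mpr ?_
      rintro y ⟨g, hg, rfl⟩
      obtain ⟨k, hk, rfl⟩ := List.getElem_of_mem hg
      obtain ⟨wit, hw⟩ := b.link i i.2
      simp only [linkOK, List.all_eq_true, List.mem_range] at hw
      have h1 := hw k hk
      cases hkl : D.kList M i (wit.getD k []) with
      | none => rw [hkl] at h1; simp at h1
      | some q =>
        obtain ⟨p, pi⟩ := q
        rw [hkl, List.getD_eq_getElem _ _ hk] at h1
        exact ⟨_, Data.kList_mem hb hkl, (b.hyp.eq_spec h1).2.2.symm⟩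
    obtain ⟨y, hy, hyx⟩ := hmap hx
    obtain rfl : y = x := Subtype.ext hyx
    exact hy
  calc ∑ i : Fin D.ns, Nat.card (Quotient (QuotientGroup.rightRel (D.K v M i)))
      = ∑ i : Fin L.ns, Nat.card (Quotient (QuotientGroup.rightRel (D.K v M i))) :=
        Fintype.sum_equiv (finCongr b.ns) _ _ fun i => rfl
    _ ≤ _ := Finset.sum_le_sum fun i _ => e i

variable {ψ : G →* (Equiv.Perm (L.Omega v))ᵐᵒᵖ}

theorem psi_word (b : Both R D L M n) (he : Extends b ψ) {w : List ℕ} (hw : ∀ g ∈ w, g < S.C.K)
    (ω : L.Omega v) :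
    (ψ (prodW gen w)).unop ω = L.rmul v ω ⟨prodW v.pgen w, v.prodW_mem w⟩ := by
  have e : ψ (prodW gen w) = LData.rmulHom L v ⟨prodW v.pgen w, v.prodW_mem w⟩ := by
    induction w with
    | nil => exact (map_one ψ).trans (map_one (LData.rmulHom L v)).symm
    | cons g w ih =>
      rw [List.forall_mem_cons] at hw
      rw [prodW_cons, map_mul, he.letter g hw.1, ih hw.2, ← map_mul]
      congr 1
  rw [e, LData.rmulHom_apply]

theorem psi_ev (b : Both R D L M n) (he : Extends b ψ) (l : List ℕ) (ω : L.Omega v) :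
    (ψ (R.ev l)).unop ω = L.rmul v ω (LData.pel v l) := b.psi_word he (v.lw_lt l) ω

theorem H_fix (b : Both R D L M n) (he : Extends b ψ) {a : G} (ha : a ∈ H) :
    (ψ a).unop b.base = b.base := by
  obtain ⟨w, hw, rfl⟩ := R.exists_word ha
  rw [b.psi_word he hw, base, LData.rmul_mkO, b.mkO_zero]
  rfl

theorem psi_wst (b : Both R D L M n) (he : Extends b ψ) : ∀ j (hj : j < L.ns),
    (ψ (D.wst R j)).unop b.base = L.mkO v ⟨j, hj⟩ 1 := by
  intro j
  induction j using Nat.strong_induction_on with
  | _ j ih =>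
    intro hj
    rcases Nat.eq_zero_or_pos j with rfl | hpos
    · rw [Data.wst, dif_neg (by rw [b.hyp.par0]; exact lt_irrefl 0), map_one]
      rfl
    · obtain ⟨w, js, hp⟩ := b.par j hj hpos
      simp only [parOK, Bool.and_eq_true, Nat.blt_eq] at hp
      obtain ⟨⟨hlt, -⟩, hp⟩ := hp
      cases hs : L.stepL S (D.par.getD j (j, [])).1 (D.par.getD j (j, [])).2 w with
      | none => rw [hs] at hp; simp at hp
      | some q =>
        obtain ⟨j', ρ⟩ := q
        rw [hs] at hp
        simp only [Bool.and_eq_true] at hp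
        obtain rfl := Nat.eq_of_beq_eq_true hp.1
        have hpn := hlt.trans hj
        obtain ⟨hj1, hh⟩ := LData.step_spec b.low
          (i := ⟨(D.par.getD j' (j', [])).1, hpn⟩) hs
        rw [Data.wst, dif_pos hlt, map_mul, map_mul, MulOpposite.unop_mul, MulOpposite.unop_mul,
          Equiv.Perm.mul_apply, Equiv.Perm.mul_apply, ih _ hlt hpn, b.psi_ev he, LData.rmul_mkO,
          one_mul, he.extra, hh]
        refine LData.mkO_eq_iff.mpr ?_
        change (1 : (Equiv.Perm (Fin S.C.N))ᵐᵒᵖ) * (v.pev ρ)⁻¹ ∈ _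
        rw [(b.low.eq_spec hp.2).2.2, one_mul]
        exact inv_mem (v.sift_mem _ _)

theorem transitive (b : Both R D L M n) (he : Extends b ψ) (ω : L.Omega v) :
    ∃ x : G, (ψ x).unop b.base = ω := by
  obtain ⟨i, p, rfl⟩ := LData.exists_mkO ω
  obtain ⟨w, hw, hwe⟩ := b.low.exists_word p
  refine ⟨D.wst R i * prodW gen w, ?_⟩
  rw [map_mul, MulOpposite.unop_mul, Equiv.Perm.mul_apply, b.psi_wst he i i.2, b.psi_word he hw,
    LData.rmul_mkO, one_mul]
  congr 1
  exact Subtype.ext hwe

/-- The index, and the point stabiliser of the action. -/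
theorem index_eq (b : Both R D L M n) (he : Extends b ψ) :
    H.index = n ∧ ∀ x : G, (ψ x).unop b.base = b.base → x ∈ H := by
  classical
  obtain ⟨hfin, hle⟩ := b.finite_quot_le
  haveI := hfin
  haveI : Fintype (G ⧸ H) := Fintype.ofFinite _
  let f : G ⧸ H → L.Omega v := fun q => Quotient.liftOn' q (fun x => (ψ x⁻¹).unop b.base)
    fun a c hac => by
      have hm : a⁻¹ * c ∈ H := QuotientGroup.leftRel_apply.mp hac
      have e : a⁻¹ = (a⁻¹ * c) * c⁻¹ := by group
      show (ψ a⁻¹).unop b.base = (ψ c⁻¹).unop b.base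
      conv_lhs => rw [e, map_mul, MulOpposite.unop_mul, Equiv.Perm.mul_apply, b.H_fix he hm]
  have hsurj : Function.Surjective f := fun ω => by
    obtain ⟨x, hx⟩ := b.transitive he ω
    exact ⟨((x⁻¹ : G) : G ⧸ H), by show (ψ x⁻¹⁻¹).unop b.base = ω; rwa [inv_inv]⟩
  have hn := LData.card_omega b.low b.pos b.size
  have hidx : H.index = n := le_antisymm hle (by
    rw [← hn]; exact Nat.card_le_card_of_surjective f hsurj)
  refine ⟨hidx, fun x hx => ?_⟩
  have hbij : Function.Bijective f := (Nat.bijective_iff_surjective_and_card f).mpr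
    ⟨hsurj, by rw [hn]; exact hidx⟩
  have e : f ((x⁻¹ : G) : G ⧸ H) = f ((1 : G) : G ⧸ H) := by
    show (ψ x⁻¹⁻¹).unop b.base = (ψ 1⁻¹).unop b.base
    rw [inv_inv, hx, inv_one, map_one]
    rfl
  simpa [QuotientGroup.eq] using hbij.1 e

end Both

end CfsgLib.DCoset
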