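import Cfsg.Agent.Lib.DCoset.Top

/-!
Lower bounds for orders from orbits, products of signed generators, and membership witnesses.
-/

set_option autoImplicit false

namespace CfsgLib.DCoset

open CfsgLib.CosetEnum

namespace Space

/-- the product of generators or their inverses -/
def kProd (gs : List (List ℕ × List ℕ)) (kk : List (ℕ × Bool)) : List ℕ :=
  kk.flatMap fun k => if k.2 then (gs.getD k.1 ([], [])).2 else (gs.getD k.1 ([], [])).1

/-- the inverse of the product -/
def kInv (gs : List (List ℕ × List ℕ)) (kk : List (ℕ × Bool)) : List ℕ :=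
  kk.reverse.flatMap fun k => if k.2 then (gs.getD k.1 ([], [])).1 else (gs.getD k.1 ([], [])).2

variable (S : Space)

/-- the check of a lower chain: orbits and fixed points only -/
noncomputable def lowOK : List Lev → Bool
  | [] => true
  | l :: ls =>
    Nat.blt l.base S.C.N && ((gensOf ls).all fun g => Nat.beq (S.app g.1 l.base) l.base) &&
      ((gensOf (l :: ls)).all fun g => allLt S.cnt g.1) &&
      (l.orbit.all fun e => Nat.beq (S.app (tr (gensOf (l :: ls)) e.2) l.base) e.1) &&
      decide (l.orbit.map Prod.fst).Nodup && lowOK ls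

variable {S}

theorem Valid.lowOK_card (v : S.Valid) : ∀ {ls : List Lev}, S.lowOK ls = true →
    chainSize ls ≤ Nat.card (v.grp (gensOf ls))
  | [], _ => Nat.one_le_iff_ne_zero.mpr Nat.card_pos.ne'
  | l :: ls, h => by
    classical
    simp only [lowOK, Bool.and_eq_true, List.all_eq_true, Nat.blt_eq, decide_eq_true_eq] at h
    obtain ⟨⟨⟨⟨⟨hb, hfix⟩, hlt⟩, hpt⟩, hnd⟩, hok⟩ := h
    have hlt' : ∀ g ∈ gensOf (l :: ls), S.Lt g.1 := fun g hg => allLt_iff.mp (hlt g hg)
    have hfx : ∀ x ∈ v.grp (gensOf ls), x.unop ⟨l.base, hb⟩ = ⟨l.base, hb⟩ := by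
      intro x hx
      induction hx using Subgroup.closure_induction with
      | mem y hy =>
        obtain ⟨g, hg, rfl⟩ := hy
        refine Fin.ext ?_
        rw [v.pev_apply (hlt' g (by rw [gensOf]; exact List.mem_append_right _ hg))]
        exact Nat.eq_of_beq_eq_true (hfix g hg)
      | one => rfl
      | mul x y _ _ hx hy => rw [v.unop_mul_apply, hx, hy]
      | inv x _ hx => rw [MulOpposite.unop_inv, Equiv.Perm.inv_eq_iff_eq, hx]
    let φ : Fin l.orbit.length × v.grp (gensOf ls) → v.grp (gensOf (l :: ls)) := fun q =>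
      ⟨q.2.1 * v.pev (tr (gensOf (l :: ls)) l.orbit[q.1].2),
        mul_mem (v.grp_cons_le l ls q.2.2) (v.tr_mem _ _)⟩
    have hφ : Function.Injective φ := by
      rintro ⟨j, r⟩ ⟨j', r'⟩ e
      have e' := congrArg Subtype.val e
      simp only [φ] at e'
      have e1 : ∀ (r : v.grp (gensOf ls)) (j : Fin l.orbit.length),
          ((r.1 * v.pev (tr (gensOf (l :: ls)) l.orbit[j].2)).unop ⟨l.base, hb⟩ : ℕ) =
            (l.orbit.map Prod.fst)[(j : ℕ)]'(by simp) := by
        intro r j
        rw [v.unop_mul_apply, hfx _ r.2, v.pev_apply (lt_flat hlt' _), List.getElem_map]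
        exact Nat.eq_of_beq_eq_true (hpt _ (List.getElem_mem j.2))
      have e2 := e1 r j
      rw [e', e1 r' j'] at e2
      obtain rfl : j = j' := Fin.ext ((hnd.getElem_inj_iff).mp e2.symm)
      exact Prod.ext rfl (Subtype.ext (mul_right_cancel e'))
    have hcard := Nat.card_le_card_of_injective φ hφ
    rw [Nat.card_prod, Nat.card_fin] at hcard
    rw [chainSize]
    exact (Nat.mul_le_mul_left _ (v.lowOK_card hok)).trans hcard

theorem Valid.kProd_mem (v : S.Valid) {gs : List (List ℕ × List ℕ)}
    (hinv : ∀ g ∈ gs, v.pev g.1 * v.pev g.2 = 1) :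
    ∀ kk, v.pev (kProd gs kk) ∈ v.grp gs ∧ v.pev (kProd gs kk) * v.pev (kInv gs kk) = 1
  | [] => by simp [kProd, kInv, v.pev_nil]
  | (k, s) :: kk => by
    obtain ⟨ih1, ih2⟩ := v.kProd_mem hinv kk
    have e1 : kProd gs ((k, s) :: kk) =
        (if s then (gs.getD k ([], [])).2 else (gs.getD k ([], [])).1) ++ kProd gs kk :=
      List.flatMap_cons
    have e2 : kInv gs ((k, s) :: kk) =
        kInv gs kk ++ (if s then (gs.getD k ([], [])).1 else (gs.getD k ([], [])).2) := by
      simp only [kInv, List.reverse_cons, List.flatMap_append, List.flatMap_cons, List.flatMap_nil,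
        List.append_nil]
    have key : v.pev (gs.getD k ([], [])).1 * v.pev (gs.getD k ([], [])).2 = 1 ∧
        v.pev (gs.getD k ([], [])).1 ∈ v.grp gs := by
      by_cases hk : k < gs.length
      · rw [List.getD_eq_getElem _ _ hk]
        exact ⟨hinv _ (List.getElem_mem hk), v.mem_grp (List.getElem_mem hk)⟩
      · rw [List.getD_eq_default _ _ (by omega)]
        simp [v.pev_nil]
    have hinv' : v.pev (gs.getD k ([], [])).2 = (v.pev (gs.getD k ([], [])).1)⁻¹ :=
      eq_inv_of_mul_eq_one_right key.1
    rw [e1, e2, v.pev_append, v.pev_append]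
    cases s with
    | false =>
      simp only [Bool.false_eq_true, ↓reduceIte]
      exact ⟨mul_mem key.2 ih1, by rw [hinv', mul_assoc, ← mul_assoc (v.pev (kProd gs kk)), ih2,
        one_mul, mul_inv_cancel]⟩
    | true =>
      simp only [↓reduceIte]
      exact ⟨mul_mem (hinv' ▸ inv_mem key.2) ih1,
        by rw [hinv', mul_assoc, ← mul_assoc (v.pev (kProd gs kk)), ih2, one_mul, inv_mul_cancel]⟩

end Space

end CfsgLib.DCoset
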