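import Cfsg.Agent.Lib.DCoset.Low
import Cfsg.Agent.Lib.DCoset.Upper

/-!
The set of cosets of certified stabilisers and the step `tau` along the extra generator.
-/

set_option autoImplicit false

namespace CfsgLib.DCoset

open CfsgLib.CosetEnum Space

/-- An orbit of a stabiliser on the points: a representative `g`, the target of the step. -/
structure Root where
  /-- an element taking the chosen point of the orbit to `0` -/
  g : List ℕ
  /-- its inverse -/
  gi : List ℕ
  /-- target state -/
  j : ℕ
  /-- the step takes `K k g u` to `K_j e g u` -/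
  e : List ℕ
  /-- inverse of `e` -/
  ei : List ℕ
  /-- lower chain for the stabiliser of the point -/
  stb : List Lev
  /-- its generators as products of generators of the state's group -/
  sk : List (List (ℕ × Bool))
  /-- their conjugates by `e` as elements of the target group -/
  si : List (List ℕ)

/-- A state: its group and its orbits on the points. -/
structure St where
  /-- levels whose generators generate the group, and whose transversals witness membership -/
  K : List Lev
  /-- order of the group -/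
  size : ℕ
  /-- packed orbit numbers -/
  col : ℕ
  /-- how each point is reached: orbit number or generator, and predecessor -/
  tree : List (Bool × ℕ × ℕ)
  /-- the orbits -/
  roots : List Root

/-- All the states. -/
structure LData where
  /-- separating points -/
  B : List ℕ
  /-- chain of the stabiliser of `0` -/
  U : List Lev
  /-- the states -/
  sts : List St

/-- default orbit -/
def Root.dflt : Root := ⟨[], [], 0, [], [], [], [], []⟩

namespace LData

variable (S : Space) (L : LData)

/-- number of states -/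
def ns : ℕ := L.sts.length

/-- state `i` -/
def st (i : ℕ) : St := L.sts.getD i ⟨[], 0, 0, [], []⟩

/-- generators of state `i` -/
def gK (i : ℕ) : List (List ℕ × List ℕ) := gensOf (L.st i).K

/-- orbit `r` of state `i` -/
def root (i r : ℕ) : Root := (L.st i).roots.getD r Root.dflt

/-- grow the reached points -/
noncomputable def treeFrom (i : ℕ) : List (Bool × ℕ × ℕ) → ℕ → Option ℕ
  | [], mask => some mask
  | (true, r, _) :: rest, mask =>
    if Nat.blt r (L.st i).roots.length then
      treeFrom i rest (Nat.lor mask (2 ^ S.app (L.root i r).gi 0))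
    else none
  | (false, k, pred) :: rest, mask =>
    if Nat.blt k (L.gK i).length && Nat.blt pred S.C.N && Nat.testBit mask pred then
      treeFrom i rest (Nat.lor mask (2 ^ S.app ((L.gK i).getD k ([], [])).1 pred))
    else none

/-- equality of permutations -/
noncomputable def eq (l m : List ℕ) : Bool := eqOn S L.B l m

/-- the check of a state's group -/
noncomputable def grpOK (i : ℕ) : Bool := S.invsOK (L.eq S) (L.gK i)

/-- the check of a state's group with its order -/
noncomputable def sizeOK (i : ℕ) : Bool :=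
  L.grpOK S i && S.chainOK (L.eq S) (L.st i).K && Nat.beq (chainSize (L.st i).K) (L.st i).size

/-- the check that a state's group contains all the letters -/
noncomputable def lettersOK (i : ℕ) : Bool :=
  L.grpOK S i && (List.range S.C.K).all fun g =>
    Nat.blt g S.cnt && (L.gK i).any fun e => e.1 == [g]

/-- the check of the orbit numbers of a state -/
noncomputable def colOK (i : ℕ) : Bool :=
  (Cert.allBelow S.C.N fun p => strict p fun p => (L.gK i).all fun g =>
    Nat.beq (pget (L.st i).col (S.app g.1 p)) (pget (L.st i).col p)) &&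
  ((List.range (L.st i).roots.length).all fun r =>
    Space.allLt S.cnt (L.root i r).gi &&
      Nat.beq (pget (L.st i).col (S.app (L.root i r).gi 0)) r) &&
  match L.treeFrom S i (L.st i).tree 0 with
  | some mask => Nat.beq mask (2 ^ S.C.N - 1)
  | none => false

/-- the check of an orbit -/
noncomputable def rootOK (i r : ℕ) : Bool :=
  let R := L.root i r
  Nat.blt R.j L.ns && L.eq S (R.g ++ R.gi) [] && L.eq S (R.e ++ R.ei) [] &&
    S.lowOK R.stb &&
    decide ((L.st i).size ≤
      ((List.range S.C.N).countP fun p => Nat.beq (pget (L.st i).col p) r) * chainSize R.stb) &&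
    ((List.range (gensOf R.stb).length).all fun k =>
      let s := ((gensOf R.stb).getD k ([], [])).1
      Nat.beq (S.app s (S.app R.gi 0)) (S.app R.gi 0) &&
        L.eq S s (kProd (L.gK i) (R.sk.getD k [])) &&
        L.eq S (R.e ++ (s ++ R.ei)) (sift (L.st R.j).K (R.si.getD k [])))

/-- What the checks give. -/
structure Valid (v : S.Valid) : Prop where
  inv : S.InvOK
  based : v.Based L.B
  sub : ∀ w ∈ S.C.subs, prodW v.pgen w ∈ v.grp (gensOf L.U)
  ufix : ∀ g ∈ gensOf L.U, S.Lt g.1 ∧ S.app g.1 0 = 0
  grp : ∀ i < L.ns, L.grpOK S i = true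
  card : ∀ i < L.ns, Nat.card (v.grp (gensOf (L.st i).K)) = (L.st i).size
  col : ∀ i < L.ns, L.colOK S i = true
  root : ∀ i < L.ns, ∀ r < (L.st i).roots.length, L.rootOK S i r = true

variable {S L}
variable {v : S.Valid}

/-- The group of state `i`. -/
noncomputable def grpK (L : LData) (v : S.Valid) (i : ℕ) :
    Subgroup (Equiv.Perm (Fin S.C.N))ᵐᵒᵖ := v.grp (L.gK i)

/-- The cosets. -/
abbrev Omega (L : LData) (v : S.Valid) : Type :=
  Σ i : Fin L.ns, Quotient (QuotientGroup.rightRel ((L.grpK v i).subgroupOf v.P))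

/-- the coset of an element -/
noncomputable def mkO (L : LData) (v : S.Valid) (i : Fin L.ns) (x : ↥v.P) : L.Omega v :=
  ⟨i, Quotient.mk _ x⟩

theorem mkO_eq_iff {i : Fin L.ns} {x y : ↥v.P} :
    L.mkO v i x = L.mkO v i y ↔ (y : (Equiv.Perm (Fin S.C.N))ᵐᵒᵖ) * (x : _)⁻¹ ∈ L.grpK v i := by
  constructor
  · intro h
    simp only [mkO, Sigma.mk.injEq, heq_eq_eq, true_and] at h
    have := QuotientGroup.rightRel_apply.mp (Quotient.exact h)
    simpa [Subgroup.mem_subgroupOf] using this
  · intro h
    simp only [mkO, Sigma.mk.injEq, heq_eq_eq, true_and]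
    exact Quotient.sound (QuotientGroup.rightRel_apply.mpr (by simpa [Subgroup.mem_subgroupOf] using h))

theorem exists_mkO (ω : L.Omega v) : ∃ i x, ω = L.mkO v i x := by
  obtain ⟨i, q⟩ := ω
  induction q using Quotient.inductionOn with
  | _ x => exact ⟨i, x, rfl⟩

/-- right multiplication -/
noncomputable def rmul (L : LData) (v : S.Valid) (ω : L.Omega v) (x : ↥v.P) : L.Omega v :=
  ⟨ω.1, Quotient.map (· * x) (fun a b h => by
    have h' := QuotientGroup.rightRel_apply.mp h
    exact QuotientGroup.rightRel_apply.mpr (by simpa [mul_assoc] using h')) ω.2⟩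

theorem rmul_mkO (i : Fin L.ns) (a x : ↥v.P) : L.rmul v (L.mkO v i a) x = L.mkO v i (a * x) := rfl

theorem rmul_mul (ω : L.Omega v) (x y : ↥v.P) :
    L.rmul v (L.rmul v ω x) y = L.rmul v ω (x * y) := by
  obtain ⟨i, a, rfl⟩ := exists_mkO ω
  rw [rmul_mkO, rmul_mkO, rmul_mkO, mul_assoc]

theorem rmul_one (ω : L.Omega v) : L.rmul v ω 1 = ω := by
  obtain ⟨i, a, rfl⟩ := exists_mkO ω
  rw [rmul_mkO, mul_one]

theorem Valid.eq_spec (h : L.Valid S v) {l m : List ℕ} (e : L.eq S l m = true) :
    S.Lt l ∧ S.Lt m ∧ v.pev l = v.pev m :=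
  ⟨(eqOn_spec e).1, (eqOn_spec e).2.1, v.lw_eq_of h.inv h.based e⟩

theorem Valid.pev_inv (h : L.Valid S v) {l li : List ℕ} (e : L.eq S (l ++ li) [] = true) :
    v.pev li = (v.pev l)⁻¹ := by
  refine eq_inv_of_mul_eq_one_right ?_
  rw [← v.pev_append, (h.eq_spec e).2.2, v.pev_nil]

theorem Valid.gK_spec (h : L.Valid S v) {i : ℕ} (hi : i < L.ns) : ∀ g ∈ L.gK i,
    S.Lt g.1 ∧ S.Lt g.2 ∧ v.pev g.1 * v.pev g.2 = 1 := by
  intro g hg
  have hgr := h.grp i hi
  simp only [grpOK, invsOK, Bool.and_eq_true, List.all_eq_true, allLt_iff] at hgr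
  obtain ⟨⟨a, b⟩, c⟩ := hgr g hg
  exact ⟨a, b, by rw [← v.pev_append, (h.eq_spec c).2.2, v.pev_nil]⟩

theorem Valid.card_K (h : L.Valid S v) {i : ℕ} (hi : i < L.ns) :
    Nat.card (L.grpK v i) = (L.st i).size := h.card i hi

/-- The order from the checks of a chain. -/
theorem card_of_chain (hK : S.InvOK) (hB : v.Based L.B) {i : ℕ} (h : L.sizeOK S i = true) :
    Nat.card (v.grp (gensOf (L.st i).K)) = (L.st i).size := by
  simp only [sizeOK, grpOK, invsOK, gK, Bool.and_eq_true, List.all_eq_true, allLt_iff] at h
  rw [← Nat.eq_of_beq_eq_true h.2]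
  exact (v.chain (fun _ _ e => v.lw_eq_of hK hB e) h.1.2 fun g hg => (h.1.1 g hg).1.1).1

/-- The order of a group with all the letters. -/
theorem card_of_letters (hK : S.InvOK) (hH : ∀ w ∈ S.C.subs, prodW v.pgen w ∈ v.grp (gensOf L.U))
    (hU : ∀ g ∈ gensOf L.U, S.Lt g.1 ∧ S.app g.1 0 = 0) {i : ℕ}
    (h : L.lettersOK S i = true)
    (hsz : (L.st i).size = S.C.N * Nat.card (v.grp (gensOf L.U))) :
    Nat.card (v.grp (gensOf (L.st i).K)) = (L.st i).size := by
  simp only [lettersOK, gK, Bool.and_eq_true, List.all_eq_true, List.any_eq_true, List.mem_range,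
    Nat.blt_eq, beq_iff_eq] at h
  have e : v.grp (gensOf (L.st i).K) = v.P := by
    refine le_antisymm (v.grp_le _) ((Subgroup.closure_le _).mpr ?_)
    rintro x ⟨g, hg, rfl⟩
    obtain ⟨hgc, e, he, hew⟩ := h.2 g hg
    rw [← Rig.pev_letter v hg hgc, ← hew]
    exact v.mem_grp he
  rw [e, hsz, v.card_P hK hH hU]

/-- the orbit number of a point -/
noncomputable def colOf (L : LData) (i : ℕ) (p : ℕ) : ℕ := pget (L.st i).col p

theorem Valid.col_inv (h : L.Valid S v) {i : ℕ} (hi : i < L.ns) :
    ∀ k ∈ L.grpK v i, ∀ p : Fin S.C.N, L.colOf i (k.unop p) = L.colOf i p := by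
  have hc := h.col i hi
  simp only [colOK, Bool.and_eq_true] at hc
  intro k hk
  induction hk using Subgroup.closure_induction with
  | mem y hy =>
    obtain ⟨g, hg, rfl⟩ := hy
    intro p
    have e := Cert.allBelow_spec hc.1.1 p p.2
    simp only [strict_eq, List.all_eq_true] at e
    rw [colOf, v.pev_apply (h.gK_spec hi g hg).1]
    exact Nat.eq_of_beq_eq_true (e g hg)
  | one => intro p; rfl
  | mul x y _ _ hx hy => intro p; rw [v.unop_mul_apply, hy, hx]
  | inv x _ hx =>
    intro p
    rw [MulOpposite.unop_inv, ← hx (x.unop⁻¹ p)]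
    simp

/-- the chosen point of an orbit -/
noncomputable def p0 (L : LData) (v : S.Valid) (i r : ℕ) : Fin S.C.N :=
  (v.pev (L.root i r).gi).unop v.zero

theorem Valid.p0_val (h : L.Valid S v) {i : ℕ} (hi : i < L.ns) {r : ℕ}
    (hr : r < (L.st i).roots.length) :
    (L.p0 v i r : ℕ) = S.app (L.root i r).gi 0 ∧ L.colOf i (L.p0 v i r) = r := by
  have hc := h.col i hi
  simp only [colOK, Bool.and_eq_true, List.all_eq_true, List.mem_range, allLt_iff] at hc
  obtain ⟨a, b⟩ := hc.1.2 r hr
  have e : (L.p0 v i r : ℕ) = S.app (L.root i r).gi 0 := v.pev_apply a v.zero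
  exact ⟨e, by rw [colOf, e]; exact Nat.eq_of_beq_eq_true b⟩

theorem Valid.exists_k (h : L.Valid S v) {i : ℕ} (hi : i < L.ns) (p : Fin S.C.N) :
    L.colOf i p < (L.st i).roots.length ∧
      ∃ k ∈ L.grpK v i, k.unop p = L.p0 v i (L.colOf i p) := by
  suffices hs : ∀ (tree : List (Bool × ℕ × ℕ)) (mask out : ℕ), L.treeFrom S i tree mask = some out →
      (∀ q : Fin S.C.N, mask.testBit q = true → ∃ r < (L.st i).roots.length,
        ∃ k ∈ L.grpK v i, k.unop q = L.p0 v i r) →
      ∀ q : Fin S.C.N, out.testBit q = true → ∃ r < (L.st i).roots.length,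
        ∃ k ∈ L.grpK v i, k.unop q = L.p0 v i r by
    have hc := h.col i hi
    simp only [colOK, Bool.and_eq_true] at hc
    cases ht : L.treeFrom S i (L.st i).tree 0 with
    | none => simp [ht] at hc
    | some out =>
      rw [ht] at hc
      have e := Nat.eq_of_beq_eq_true hc.2
      obtain ⟨r, hr, k, hk, hkp⟩ := hs _ _ _ ht (fun q hq => by simp at hq) p
        (by rw [e, Nat.testBit_two_pow_sub_one, decide_eq_true p.2])
      have hcol : L.colOf i p = r := by
        rw [← h.col_inv hi k hk p, hkp, (h.p0_val hi hr).2]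
      exact ⟨hcol ▸ hr, k, hk, hcol ▸ hkp⟩
  intro tree
  induction tree with
  | nil =>
    intro mask out e hm
    simp only [treeFrom, Option.some.injEq] at e
    exact e ▸ hm
  | cons a rest ih =>
    intro mask out e hm
    obtain ⟨b, k0, pred⟩ := a
    cases b with
    | true =>
      rw [treeFrom] at e
      split at e
      · rename_i hk0
        rw [Nat.blt_eq] at hk0
        refine ih _ _ e fun q hq => ?_
        rw [show ∀ a b : ℕ, Nat.lor a b = a ||| b from fun _ _ => rfl,
          Nat.testBit_or, Bool.or_eq_true, Nat.testBit_two_pow, decide_eq_true_eq] at hq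
        rcases hq with hq | hq
        · exact hm q hq
        · exact ⟨k0, hk0, 1, one_mem _, Fin.ext ((h.p0_val hi hk0).1.trans hq).symm⟩
      · simp at e
    | false =>
      rw [treeFrom] at e
      split at e
      · rename_i hc
        simp only [Bool.and_eq_true, Nat.blt_eq] at hc
        refine ih _ _ e fun q hq => ?_
        rw [show ∀ a b : ℕ, Nat.lor a b = a ||| b from fun _ _ => rfl,
          Nat.testBit_or, Bool.or_eq_true, Nat.testBit_two_pow, decide_eq_true_eq] at hq
        rcases hq with hq | hq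
        · exact hm q hq
        · have hg : (L.gK i).getD k0 ([], []) ∈ L.gK i := by
            rw [List.getD_eq_getElem _ _ hc.1.1]; exact List.getElem_mem hc.1.1
          obtain ⟨r, hr, k, hk, hkp⟩ := hm ⟨pred, hc.1.2⟩ hc.2
          refine ⟨r, hr, (v.pev ((L.gK i).getD k0 ([], [])).1)⁻¹ * k,
            mul_mem (inv_mem (v.mem_grp hg)) hk, ?_⟩
          rw [v.unop_mul_apply, MulOpposite.unop_inv, ← hkp]
          congr 1
          rw [Equiv.Perm.inv_eq_iff_eq]
          exact (Fin.ext ((v.pev_apply (h.gK_spec hi _ hg).1 ⟨pred, hc.1.2⟩).trans hq)).symm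
      · simp at e

end LData

end CfsgLib.DCoset
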