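import Cfsg.Agent.Lib.DCoset.Orbits

/-!
The step along the extra generator is well defined and commutes with the stabiliser of `0`.
-/

set_option autoImplicit false

namespace CfsgLib.DCoset

open CfsgLib.CosetEnum Space

namespace LData

variable {S : Space} {L : LData} {v : S.Valid}

theorem Valid.root_spec (h : L.Valid S v) {i r : ℕ} (hi : i < L.ns)
    (hr : r < (L.st i).roots.length) :
    (L.root i r).j < L.ns ∧ S.Lt (L.root i r).g ∧ S.Lt (L.root i r).gi ∧ S.Lt (L.root i r).e ∧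
      v.pev (L.root i r).gi = (v.pev (L.root i r).g)⁻¹ ∧
      v.pev (L.root i r).ei = (v.pev (L.root i r).e)⁻¹ := by
  have hk := h.root i hi r hr
  simp only [rootOK, Bool.and_eq_true, Nat.blt_eq] at hk
  obtain ⟨⟨⟨⟨⟨hj, hg⟩, he⟩, -⟩, -⟩, -⟩ := hk
  obtain ⟨a, -, -⟩ := h.eq_spec hg
  obtain ⟨b, -, -⟩ := h.eq_spec he
  exact ⟨hj, fun n hn => a n (List.mem_append_left _ hn), fun n hn => a n (List.mem_append_right _ hn),
    fun n hn => b n (List.mem_append_left _ hn), h.pev_inv hg, h.pev_inv he⟩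

/-- The stabiliser of the point of an orbit is carried into the target group. -/
theorem Valid.stab_map (h : L.Valid S v) {i r : ℕ} (hi : i < L.ns)
    (hr : r < (L.st i).roots.length) {d : (Equiv.Perm (Fin S.C.N))ᵐᵒᵖ} (hd : d ∈ L.grpK v i)
    (hfix : d.unop (L.p0 v i r) = L.p0 v i r) :
    v.pev (L.root i r).e * d * (v.pev (L.root i r).e)⁻¹ ∈ L.grpK v (L.root i r).j := by
  classical
  have hk := h.root i hi r hr
  simp only [rootOK, Bool.and_eq_true, Nat.blt_eq, decide_eq_true_eq, List.all_eq_true,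
    List.mem_range] at hk
  obtain ⟨⟨⟨⟨⟨hj, -⟩, he⟩, hlow⟩, hsize⟩, hgen⟩ := hk
  have hei := h.pev_inv he
  let stab : Subgroup (Equiv.Perm (Fin S.C.N))ᵐᵒᵖ :=
    { carrier := {x | x ∈ L.grpK v i ∧ x.unop (L.p0 v i r) = L.p0 v i r}
      mul_mem' := fun {a b} ha hb => ⟨mul_mem ha.1 hb.1, by rw [v.unop_mul_apply, ha.2, hb.2]⟩
      one_mem' := ⟨one_mem _, rfl⟩
      inv_mem' := fun {a} ha => ⟨inv_mem ha.1, by
        rw [MulOpposite.unop_inv, Equiv.Perm.inv_eq_iff_eq, ha.2]⟩ }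
  have hp0 := (h.p0_val hi hr).1
  have hgs : ∀ g ∈ gensOf (L.root i r).stb,
      v.pev g.1 ∈ stab ∧
        v.pev (L.root i r).e * v.pev g.1 * (v.pev (L.root i r).e)⁻¹ ∈ L.grpK v (L.root i r).j := by
    intro g hg
    obtain ⟨k, hklt, rfl⟩ := List.getElem_of_mem hg
    obtain ⟨⟨hf, e1⟩, e2⟩ := hgen k hklt
    rw [List.getD_eq_getElem _ _ hklt] at hf e1 e2
    obtain ⟨a, -, b⟩ := h.eq_spec e1
    refine ⟨⟨?_, Fin.ext ?_⟩, ?_⟩
    · rw [b]
      exact (v.kProd_mem (fun g hg => (h.gK_spec hi g hg).2.2) _).1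
    · rw [v.pev_apply a, hp0]
      exact Nat.eq_of_beq_eq_true hf
    · obtain ⟨-, -, c⟩ := h.eq_spec e2
      rw [v.pev_append, v.pev_append, hei, ← mul_assoc] at c
      rw [c]
      exact v.sift_mem _ _
  have hle : v.grp (gensOf (L.root i r).stb) ≤ stab := by
    refine (Subgroup.closure_le _).mpr ?_
    rintro x ⟨g, hg, rfl⟩
    exact (hgs g hg).1
  let Q : Finset (Fin S.C.N) := Finset.univ.filter fun q => L.colOf i q = r
  have hQ : ((List.range S.C.N).countP fun p => Nat.beq (pget (L.st i).col p) r) = Q.card := by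
    rw [List.countP_eq_length_filter, ← List.toFinset_card_of_nodup (List.nodup_range.filter _),
      ← Finset.card_map Fin.valEmbedding]
    congr 1
    ext y
    simp only [List.mem_toFinset, List.mem_filter, List.mem_range, Finset.mem_map,
      Fin.valEmbedding_apply]
    exact ⟨fun ⟨a, b⟩ => ⟨⟨y, a⟩,
        Finset.mem_filter.mpr ⟨Finset.mem_univ _, Nat.eq_of_beq_eq_true b⟩, rfl⟩,
      fun ⟨z, a, b⟩ => b ▸ ⟨z.2, by
        rw [show pget (L.st i).col z = r from (Finset.mem_filter.mp a).2]; exact Nat.beq_refl r⟩⟩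
  have hpick : ∀ q : Q, ∃ k ∈ L.grpK v i, k.unop q.1 = L.p0 v i r := by
    rintro ⟨q, hq⟩
    simp only [Q, Finset.mem_filter, Finset.mem_univ, true_and] at hq
    obtain ⟨-, k, hk, hkq⟩ := h.exists_k hi q
    exact ⟨k, hk, hq ▸ hkq⟩
  choose kq hkq hkq' using hpick
  let φ : Q × stab → L.grpK v i := fun a => ⟨kq a.1 * a.2.1, mul_mem (hkq _) a.2.2.1⟩
  have hφ : Function.Injective φ := by
    rintro ⟨q, a⟩ ⟨q', a'⟩ e
    have e' := congrArg Subtype.val e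
    simp only [φ] at e'
    have e1 : (kq q * a.1).unop q.1 = (kq q * a.1).unop q'.1 := by
      rw [v.unop_mul_apply, hkq', a.2.2]
      conv_rhs => rw [e']
      rw [v.unop_mul_apply, hkq', a'.2.2]
    obtain rfl : q = q' := Subtype.ext ((kq q * a.1).unop.injective e1)
    exact Prod.ext rfl (Subtype.ext (mul_left_cancel e'))
  have hcard := Nat.card_le_card_of_injective φ hφ
  rw [Nat.card_prod, Nat.card_eq_finsetCard, h.card_K hi] at hcard
  rw [hQ] at hsize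
  have hQ0 : 0 < Q.card := Finset.card_pos.mpr ⟨L.p0 v i r, by simp [Q, (h.p0_val hi hr).2]⟩
  have hsz : Nat.card stab ≤ Nat.card (v.grp (gensOf (L.root i r).stb)) :=
    Nat.le_of_mul_le_mul_left
      (hcard.trans (hsize.trans (Nat.mul_le_mul_left _ (v.lowOK_card hlow)))) hQ0
  have heq : v.grp (gensOf (L.root i r).stb) = stab := Subgroup.eq_of_le_of_card_ge hle hsz
  have hd' : d ∈ v.grp (gensOf (L.root i r).stb) := by rw [heq]; exact ⟨hd, hfix⟩
  clear hfix hd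
  induction hd' using Subgroup.closure_induction with
  | mem y hy => obtain ⟨g, hg, rfl⟩ := hy; exact (hgs g hg).2
  | one => simp
  | mul x y _ _ hx hy => simpa [mul_assoc] using mul_mem hx hy
  | inv x _ hx => simpa [mul_assoc] using inv_mem hx

/-- the point of an element -/
noncomputable def ptOf (v : S.Valid) (x : (Equiv.Perm (Fin S.C.N))ᵐᵒᵖ) : Fin S.C.N :=
  x⁻¹.unop v.zero

theorem ptOf_left (v : S.Valid) (s x : (Equiv.Perm (Fin S.C.N))ᵐᵒᵖ) :
    ptOf v (s * x) = s⁻¹.unop (ptOf v x) := by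
  rw [ptOf, ptOf, mul_inv_rev, v.unop_mul_apply]

theorem Valid.grpK_le (_ : L.Valid S v) (i : ℕ) : L.grpK v i ≤ v.P := v.grp_le _

/-- the step on a coset representative -/
noncomputable def tauRaw (h : L.Valid S v) (i : Fin L.ns) (x : ↥v.P) : L.Omega v :=
  L.mkO v ⟨(L.root i (L.colOf i (ptOf v x.1))).j,
      (h.root_spec i.2 (h.exists_k i.2 (ptOf v x.1)).1).1⟩
    ⟨v.pev (L.root i (L.colOf i (ptOf v x.1))).e *
        ((h.exists_k i.2 (ptOf v x.1)).2.choose)⁻¹ * x.1,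
      mul_mem (mul_mem (v.pev_mem _)
        (inv_mem (h.grpK_le i (h.exists_k i.2 (ptOf v x.1)).2.choose_spec.1))) x.2⟩

theorem tauRaw_eq (h : L.Valid S v) (i : Fin L.ns) (x : ↥v.P) {r : ℕ}
    (hr : r < (L.st i).roots.length) {k : (Equiv.Perm (Fin S.C.N))ᵐᵒᵖ} (hk : k ∈ L.grpK v i)
    (hkp : k.unop (ptOf v x.1) = L.p0 v i r) {j : Fin L.ns} (hj : (L.root i r).j = j) (y : ↥v.P)
    (hy : y.1 = v.pev (L.root i r).e * k⁻¹ * x.1) :
    tauRaw h i x = L.mkO v j y := by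
  have hcol : L.colOf i (ptOf v x.1) = r := by
    rw [← h.col_inv i.2 k hk (ptOf v x.1), hkp, (h.p0_val i.2 hr).2]
  obtain ⟨hk1, hk2⟩ := (h.exists_k i.2 (ptOf v x.1)).2.choose_spec
  suffices key : ∀ (c : ℕ) (k0 : (Equiv.Perm (Fin S.C.N))ᵐᵒᵖ), k0 ∈ L.grpK v i →
      k0.unop (ptOf v x.1) = L.p0 v i c → c = r →
      ∀ (m1 : (L.root i c).j < L.ns) (m2 : v.pev (L.root i c).e * k0⁻¹ * x.1 ∈ v.P),
        L.mkO v ⟨_, m1⟩ ⟨_, m2⟩ = L.mkO v j y from key _ _ hk1 hk2 hcol _ _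
  rintro c k0 hk1 hk2 rfl m1 m2
  obtain rfl : j = ⟨(L.root i c).j, m1⟩ := Fin.ext hj.symm
  refine mkO_eq_iff.mpr ?_
  change y.1 * _⁻¹ ∈ _
  rw [hy]
  have hd : k⁻¹ * k0 ∈ L.grpK v i := mul_mem (inv_mem hk) hk1
  have hfix : (k⁻¹ * k0).unop (L.p0 v i c) = L.p0 v i c := by
    rw [v.unop_mul_apply, MulOpposite.unop_inv, ← hkp, Equiv.Perm.inv_def,
      Equiv.symm_apply_apply, hk2, hkp]
  simpa [mul_assoc] using h.stab_map i.2 hr hd hfix

/-- the step -/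
noncomputable def tau (h : L.Valid S v) (ω : L.Omega v) : L.Omega v :=
  Quotient.liftOn ω.2 (tauRaw h ω.1) fun a b hab => by
    have hs : (b : (Equiv.Perm (Fin S.C.N))ᵐᵒᵖ) * (a : (Equiv.Perm (Fin S.C.N))ᵐᵒᵖ)⁻¹ ∈
        L.grpK v ω.1 := by
      simpa [Subgroup.mem_subgroupOf] using QuotientGroup.rightRel_apply.mp hab
    obtain ⟨hr, hex⟩ := h.exists_k ω.1.2 (ptOf v b.1)
    obtain ⟨k, hk, hkp⟩ := hex
    have hy : v.pev (L.root ω.1 (L.colOf ω.1 (ptOf v b.1))).e * k⁻¹ * b.1 ∈ v.P :=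
      mul_mem (mul_mem (v.pev_mem _) (inv_mem (h.grpK_le _ hk))) b.2
    rw [tauRaw_eq h ω.1 b hr hk hkp (j := ⟨_, (h.root_spec ω.1.2 hr).1⟩) rfl ⟨_, hy⟩ rfl]
    refine tauRaw_eq h ω.1 a hr (k := (b.1 * a.1⁻¹)⁻¹ * k) (mul_mem (inv_mem hs) hk) ?_ rfl ⟨_, hy⟩
      (by simp [mul_assoc])
    have e : ptOf v b.1 = (b.1 * a.1⁻¹)⁻¹.unop (ptOf v a.1) := by
      rw [← ptOf_left, mul_assoc, inv_mul_cancel, mul_one]
    rw [v.unop_mul_apply, ← e, hkp]

theorem tau_mkO (h : L.Valid S v) (i : Fin L.ns) (x : ↥v.P) :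
    tau h (L.mkO v i x) = tauRaw h i x := rfl

/-- the step commutes with the stabiliser of `0` -/
theorem tau_rmul (h : L.Valid S v) (ω : L.Omega v) (u : ↥v.P)
    (hu : u.1.unop v.zero = v.zero) : tau h (L.rmul v ω u) = L.rmul v (tau h ω) u := by
  obtain ⟨i, a, rfl⟩ := exists_mkO ω
  obtain ⟨hr, k, hk, hkp⟩ := h.exists_k i.2 (ptOf v a.1)
  have hpt : ptOf v (a.1 * u.1) = ptOf v a.1 := by
    rw [ptOf, ptOf, mul_inv_rev, v.unop_mul_apply]
    congr 1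
    rw [MulOpposite.unop_inv, Equiv.Perm.inv_eq_iff_eq, hu]
  have hy : v.pev (L.root i (L.colOf i (ptOf v a.1))).e * k⁻¹ * a.1 ∈ v.P :=
    mul_mem (mul_mem (v.pev_mem _) (inv_mem (h.grpK_le _ hk))) a.2
  rw [rmul_mkO, tau_mkO, tau_mkO,
    tauRaw_eq h i a hr hk hkp (j := ⟨_, (h.root_spec i.2 hr).1⟩) rfl ⟨_, hy⟩ rfl, rmul_mkO,
    tauRaw_eq h i (a * u) hr hk (by rw [Subgroup.coe_mul, hpt, hkp])
      (j := ⟨_, (h.root_spec i.2 hr).1⟩) rfl (⟨_, hy⟩ * u) (by simp [mul_assoc])]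

end LData

end CfsgLib.DCoset
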