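import Cfsg.Agent.Lib.DCoset.Chain

/-!
The permutation group of all the letters: point stabiliser, order and base.
-/

set_option autoImplicit false

namespace CfsgLib.DCoset

open CfsgLib.CosetEnum

namespace Space

variable {S : Space}

/-- The group of the letters. -/
noncomputable def Valid.P (v : S.Valid) : Subgroup (Equiv.Perm (Fin S.C.N))ᵐᵒᵖ :=
  Subgroup.closure {x | ∃ g < S.C.K, v.pgen g = x}

theorem Valid.pgen_K (v : S.Valid) {g : ℕ} (hg : S.C.K ≤ g) : v.pgen g = 1 := by
  simp [Valid.pgen, letterPerm, Nat.not_lt.mpr hg]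

theorem Valid.pgen_mem (v : S.Valid) (g : ℕ) : v.pgen g ∈ v.P := by
  by_cases h : g < S.C.K
  · exact Subgroup.subset_closure ⟨g, h, rfl⟩
  · rw [v.pgen_K (Nat.le_of_not_lt h)]; exact one_mem _

theorem Valid.prodW_mem (v : S.Valid) (w : List ℕ) : prodW v.pgen w ∈ v.P := by
  induction w with
  | nil => simp
  | cons g w ih => rw [prodW_cons]; exact mul_mem (v.pgen_mem g) ih

theorem Valid.pev_mem (v : S.Valid) (l : List ℕ) : v.pev l ∈ v.P := v.prodW_mem _

theorem Valid.grp_le (v : S.Valid) (gs : List (List ℕ × List ℕ)) : v.grp gs ≤ v.P := by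
  refine (Subgroup.closure_le _).mpr ?_
  rintro x ⟨g, -, rfl⟩
  exact v.pev_mem _

/-- The hypothesis on the inverse letters. -/
def InvOK (S : Space) : Prop := ∀ g, S.C.K ≤ g → S.C.K ≤ S.C.inv g

theorem Valid.inv_mul (v : S.Valid) (hK : S.InvOK) (g : ℕ) :
    v.pgen g * v.pgen (S.C.inv g) = 1 := by
  by_cases hg : g < S.C.K
  · have hi := v.complete.inv_lt hg
    refine MulOpposite.unop_injective (Equiv.ext fun x => Fin.ext ?_)
    have e := v.pgen_apply (w := [g, S.C.inv g]) (by simp [hg, hi]) x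
    simp only [prodW_cons, prodW_nil, mul_one] at e
    rw [e, Cert.run_cons, Cert.run_cons, Cert.run_nil]
    exact (v.action.T_lt x.2 hg).2
  · rw [v.pgen_K (Nat.le_of_not_lt hg), v.pgen_K (hK g (Nat.le_of_not_lt hg)), one_mul]

theorem Valid.model (v : S.Valid) (hK : S.InvOK) (H : Subgroup (Equiv.Perm (Fin S.C.N))ᵐᵒᵖ)
    (hH : ∀ w ∈ S.C.subs, prodW v.pgen w ∈ H) : Model S.C H v.pgen where
  gen_K := v.pgen_K le_rfl
  inv_mul := v.inv_mul hK
  rel := fun r hr => by
    rw [v.prodW_pgen, prodW_letterPerm_rel _ _ r hr, inv_one, MulOpposite.op_one]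
  sub := hH

/-- The zero point. -/
def Valid.zero (v : S.Valid) : Fin S.C.N := ⟨0, v.complete.N_pos⟩

/-- A word fixing the point `0` lies in any group containing the subgroup words. -/
theorem Valid.mem_of_fix (v : S.Valid) (hK : S.InvOK) {H : Subgroup (Equiv.Perm (Fin S.C.N))ᵐᵒᵖ}
    (hH : ∀ w ∈ S.C.subs, prodW v.pgen w ∈ H) {w : List ℕ} (hw : ∀ g ∈ w, g < S.C.K)
    (h : S.C.run 0 w = 0) : prodW v.pgen w ∈ H :=
  mem_of_run_eq_zero v.complete (v.model hK H hH) hw h

/-- The bases of a chain for the stabiliser of `0`, with `0`, separate the elements. -/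
theorem Valid.based_of_chain (v : S.Valid) (hK : S.InvOK) {eq : List ℕ → List ℕ → Bool}
    (he : v.Sound eq) {ls : List Lev} (h : S.chainOK eq ls = true)
    (hgs : ∀ g ∈ gensOf ls, S.Lt g.1) (hlt : ∀ l ∈ ls, l.base < S.C.N)
    (hH : ∀ w ∈ S.C.subs, prodW v.pgen w ∈ v.grp (gensOf ls)) :
    v.Based (0 :: ls.map Lev.base) := by
  refine ⟨?_, fun w hw hfix => ?_⟩
  · intro b hb
    rcases List.mem_cons.mp hb with rfl | hb
    · exact v.complete.N_pos
    · obtain ⟨l, hl, rfl⟩ := List.mem_map.mp hb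
      exact hlt l hl
  · have hmem := v.mem_of_fix hK hH hw (hfix 0 List.mem_cons_self)
    refine (v.chain he h hgs).2 _ hmem fun l hl hb => ?_
    rw [v.pgen_apply hw]
    exact hfix l.base (List.mem_cons_of_mem _ (List.mem_map_of_mem hl))

theorem Valid.lw_eq_of (v : S.Valid) (hK : S.InvOK) {B : List ℕ} (hB : v.Based B) {l m : List ℕ}
    (h : eqOn S B l m = true) : v.pev l = v.pev m := by
  obtain ⟨hl, hm, hb⟩ := eqOn_spec h
  have hrev : ∀ g ∈ S.C.revInv (v.lw m), g < S.C.K := by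
    intro g hg
    simp only [Cert.revInv, List.mem_reverse, List.mem_map] at hg
    obtain ⟨g', hg', rfl⟩ := hg
    exact v.complete.inv_lt (v.lw_lt m g' hg')
  have hinv : prodW v.pgen (S.C.revInv (v.lw m)) = (v.pev m)⁻¹ :=
    (v.model hK ⊤ fun _ _ => trivial).revInv_eq _
  have h1 := hB.2 (v.lw l ++ S.C.revInv (v.lw m))
    (fun g hg => (List.mem_append.mp hg).elim (v.lw_lt l g) (hrev g)) ?_
  · rwa [prodW_append, hinv, ← eq_inv_iff_mul_eq_one, inv_inv] at h1
  · intro b hbB
    have hbN := hB.1 b hbB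
    rw [run_append, v.run_lw hl hbN, hb b hbB]
    have e := v.pgen_apply hrev ⟨S.app m b, v.app_lt hm hbN⟩
    rw [hinv] at e
    simp only at e
    rw [← e, MulOpposite.unop_inv]
    have e' : ((v.pev m).unop ⟨b, hbN⟩) = ⟨S.app m b, v.app_lt hm hbN⟩ :=
      Fin.ext (v.pev_apply hm _)
    rw [Equiv.Perm.inv_eq_iff_eq.mpr e'.symm]

/-- Equality on a base is sound. -/
theorem Valid.sound_base (v : S.Valid) (hK : S.InvOK) {B : List ℕ} (hB : v.Based B) :
    v.Sound (eqOn S B) := fun _ _ h => v.lw_eq_of hK hB h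

/-- all the points -/
noncomputable def allPts (S : Space) : List ℕ := List.range S.C.N

/-- Equality on all the points is sound. -/
theorem Valid.sound_all (v : S.Valid) : v.Sound (eqOn S S.allPts) := by
  intro l m h
  obtain ⟨hl, hm, hb⟩ := eqOn_spec h
  refine MulOpposite.unop_injective (Equiv.ext fun x => Fin.ext ?_)
  rw [v.pev_apply hl, v.pev_apply hm]
  exact hb x (by simp [allPts])

/-- The inverse permutations as a left action. -/
noncomputable def Valid.leftAct (v : S.Valid) : ↥v.P →* Equiv.Perm (Fin S.C.N) where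
  toFun x := (x.1.unop)⁻¹
  map_one' := by simp
  map_mul' x y := by simp [mul_inv_rev]

/-- The generators inside the group. -/
noncomputable def Valid.genP (v : S.Valid) (g : ℕ) : ↥v.P := ⟨v.pgen g, v.pgen_mem g⟩

theorem Valid.coe_prodW (v : S.Valid) (w : List ℕ) :
    ((prodW v.genP w : ↥v.P) : (Equiv.Perm (Fin S.C.N))ᵐᵒᵖ) = prodW v.pgen w :=
  (map_prodW v.P.subtype v.genP w)

/-- The order of the group. -/
theorem Valid.card_P (v : S.Valid) (hK : S.InvOK) {gs : List (List ℕ × List ℕ)}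
    (hH : ∀ w ∈ S.C.subs, prodW v.pgen w ∈ v.grp gs)
    (hfix : ∀ g ∈ gs, S.Lt g.1 ∧ S.app g.1 0 = 0) :
    Nat.card v.P = S.C.N * Nat.card (v.grp gs) := by
  classical
  let H : Subgroup ↥v.P := Subgroup.closure {y | ∃ w ∈ S.C.subs, prodW v.genP w = y}
  have htop : Subgroup.closure {y | ∃ g < S.C.K, v.genP g = y} = ⊤ := by
    refine (Subgroup.map_injective v.P.subtype_injective) ?_
    rw [MonoidHom.map_closure, ← MonoidHom.range_eq_map, Subgroup.range_subtype]
    refine congrArg Subgroup.closure (Set.ext fun x => ?_)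
    exact ⟨fun ⟨y, ⟨g, hg, e⟩, e'⟩ => ⟨g, hg, by rw [← e', ← e]; rfl⟩,
      fun ⟨g, hg, e⟩ => ⟨_, ⟨g, hg, rfl⟩, e⟩⟩
  have s : Setup S.C H v.genP v.leftAct :=
    { complete := v.complete
      action := v.action
      model :=
        { gen_K := Subtype.ext (v.pgen_K le_rfl)
          inv_mul := fun g => Subtype.ext (v.inv_mul hK g)
          rel := fun r hr => Subtype.ext (by
            rw [v.coe_prodW]; exact (v.model hK ⊤ fun _ _ => trivial).rel r hr)
          sub := fun w hw => Subgroup.subset_closure ⟨w, hw, rfl⟩ }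
      gen_top := htop
      rho_gen := fun g _ => by simp [Valid.leftAct, Valid.genP, Valid.pgen]
      H_eq := rfl }
  have hmap : H.map v.P.subtype = v.grp gs := by
    refine le_antisymm ?_ ?_
    · rw [MonoidHom.map_closure, Subgroup.closure_le]
      rintro x ⟨y, ⟨w, hw, rfl⟩, rfl⟩
      show ((prodW v.genP w : ↥v.P) : (Equiv.Perm (Fin S.C.N))ᵐᵒᵖ) ∈ v.grp gs
      rw [v.coe_prodW]
      exact hH w hw
    · refine (Subgroup.closure_le _).mpr ?_
      rintro x ⟨g, hg, rfl⟩
      refine ⟨prodW v.genP (v.lw g.1), (s.mem_iff _).mpr ?_, v.coe_prodW _⟩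
      refine (Equiv.Perm.inv_eq_iff_eq).mpr (Fin.ext ?_)
      have e := v.pev_apply (hfix g hg).1 s.base
      rw [Valid.pev, ← v.coe_prodW] at e
      exact ((e.trans (hfix g hg).2)).symm
  rw [← hmap, Subgroup.card_map_of_injective v.P.subtype_injective]
  have e := H.card_mul_index
  rw [s.index_eq] at e
  rw [← e, mul_comm]

end Space

end CfsgLib.DCoset
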